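import Groth.Agent.LimDesc62.Basic
import Groth.Agent.LimDesc62.Points
import Mathlib.AlgebraicGeometry.Morphisms.FinitePresentation
import Mathlib.AlgebraicGeometry.Fiber

/-! The morphism induced on fibres over the base, and first constructibility statements. -/

set_option autoImplicit false
universe u

open CategoryTheory CategoryTheory.Limits AlgebraicGeometry TopologicalSpace Topology

namespace Groth.Agent.Cons62

theorem isLocallyConstructible_compl {X : Type*} [TopologicalSpace X] {s : Set X}
    (hs : IsLocallyConstructible s) : IsLocallyConstructible sᶜ := fun x => by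
  obtain ⟨U, hxU, hU, hc⟩ := hs x
  exact ⟨U, hxU, hU, by rw [Set.preimage_compl]; exact isConstructible_compl.mpr hc⟩

variable {X Y S : Scheme.{u}}

/-- The morphism induced on fibres over `s`. -/
noncomputable def fib (f : X ⟶ Y) (g : Y ⟶ S) (s : S) :
    pullback f (pullback.fst g (S.fromSpecResidueField s)) ⟶ pullback g (S.fromSpecResidueField s) :=
  pullback.snd f (pullback.fst g (S.fromSpecResidueField s))

/-- The set of points of the base over which the induced morphism on fibres satisfies `P`. -/
def goodSet (P : MorphismProperty Scheme.{u}) (f : X ⟶ Y) (g : Y ⟶ S) : Set S := {s | P (fib f g s)}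

theorem isPullback_lift (f : X ⟶ Y) (g : Y ⟶ S) {Z : Scheme.{u}} (t : Z ⟶ S) :
    IsPullback (pullback.fst (f ≫ g) t)
      (pullback.lift (pullback.fst (f ≫ g) t ≫ f) (pullback.snd (f ≫ g) t)
        ((Category.assoc _ _ _).trans pullback.condition) : pullback (f ≫ g) t ⟶ pullback g t)
      f (pullback.fst g t) := by
  refine IsPullback.of_bot ?_ (pullback.lift_fst _ _ _).symm (IsPullback.of_hasPullback g t)
  rw [pullback.lift_snd]
  exact IsPullback.of_hasPullback (f ≫ g) t

theorem setOf_lift_eq {P : MorphismProperty Scheme.{u}} [P.RespectsIso] (f : X ⟶ Y) (g : Y ⟶ S) :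
    {s : S | P (pullback.lift (pullback.fst (f ≫ g) (S.fromSpecResidueField s) ≫ f)
      (pullback.snd (f ≫ g) (S.fromSpecResidueField s)) ((Category.assoc _ _ _).trans pullback.condition) :
        pullback (f ≫ g) (S.fromSpecResidueField s) ⟶ pullback g (S.fromSpecResidueField s))} =
      goodSet P f g :=
  Set.ext fun s => LimDesc62.prop_iff_of_isPullback (isPullback_lift f g (S.fromSpecResidueField s))

theorem range_fst_fib (g : Y ⟶ S) (s : S) :
    Set.range (pullback.fst g (S.fromSpecResidueField s)) = g ⁻¹' {s} := by
  rw [Scheme.Pullback.range_fst, Scheme.range_fromSpecResidueField]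

theorem goodSet_surjective (f : X ⟶ Y) (g : Y ⟶ S) :
    goodSet @Surjective f g = (g '' (Set.range f)ᶜ)ᶜ := by
  ext s
  show Surjective (fib f g s) ↔ _
  rw [surjective_iff, ← Set.range_eq_univ, fib, Scheme.Pullback.range_snd, Set.preimage_eq_univ_iff,
    range_fst_fib]
  constructor
  · rintro h ⟨y, hy, rfl⟩
    exact hy (h rfl)
  · intro h y hy
    by_contra hy'
    exact h ⟨y, hy', hy⟩

theorem isLocallyConstructible_range (f : X ⟶ Y) [LocallyOfFinitePresentation f] [QuasiCompact f] :
    IsLocallyConstructible (Set.range f) := by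
  rw [← Set.image_univ]
  exact f.isLocallyConstructible_image .univ

theorem cons_surjective (f : X ⟶ Y) (g : Y ⟶ S) [LocallyOfFinitePresentation f] [QuasiCompact f]
    [LocallyOfFinitePresentation g] [QuasiCompact g] :
    IsLocallyConstructible (goodSet @Surjective f g) := by
  rw [goodSet_surjective]
  exact isLocallyConstructible_compl
    (g.isLocallyConstructible_image (isLocallyConstructible_compl (isLocallyConstructible_range f)))

theorem prop_snd_iso_iff {P : MorphismProperty Scheme.{u}} [P.RespectsIso] {V W U U' : Scheme.{u}}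
    (a : V ⟶ W) (b : U ⟶ W) (e : U' ⟶ U) [IsIso e] :
    P (pullback.snd a (e ≫ b)) ↔ P (pullback.snd a b) := by
  have h : IsPullback (pullback.fst a (e ≫ b)) (pullback.snd a (e ≫ b) ≫ e) a b :=
    (IsPullback.of_hasPullback a (e ≫ b)).of_iso (Iso.refl _) (Iso.refl _) (asIso e) (Iso.refl _)
      (by simp) (by simp) (by simp) (by simp)
  rw [← LimDesc62.prop_iff_of_isPullback (P := P) h, P.cancel_right_of_respectsIso]

theorem fib_diagonal_iff {P : MorphismProperty Scheme.{u}} [P.RespectsIso] (f : X ⟶ Y) (g : Y ⟶ S) (s : S) :
    P.diagonal (fib f g s) ↔ P (fib (pullback.diagonal f) ((pullback.snd f f ≫ f) ≫ g) s) := by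
  rw [fib, fib]
  set t := pullback.fst g (S.fromSpecResidueField s) with ht
  have h0 : P.diagonal (pullback.snd f t) ↔ P.diagonal (pullback.fst t f) := by
    rw [← pullbackSymmetry_hom_comp_fst]
    exact P.diagonal.cancel_left_of_respectsIso _ _
  let L : pullback f t ⟶ pullback (pullback.snd f f ≫ f) t :=
    pullback.lift (pullback.fst f t ≫ pullback.diagonal f) (pullback.snd f t)
      (by rw [Category.assoc, pullback.diagonal_snd_assoc, pullback.condition])
  have h1 : P.diagonal (pullback.fst t f) ↔ P L := by
    rw [MorphismProperty.diagonal_iff, diagonal_pullback_fst, P.cancel_left_of_respectsIso,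
      P.cancel_right_of_respectsIso]
    exact Iff.rfl
  have hsq : IsPullback (pullback.fst f t) L (pullback.diagonal f) (pullback.fst (pullback.snd f f ≫ f) t) := by
    refine IsPullback.of_bot ?_ (pullback.lift_fst _ _ _).symm (IsPullback.of_hasPullback _ t)
    have e : L ≫ pullback.snd (pullback.snd f f ≫ f) t = pullback.snd f t := pullback.lift_snd _ _ _
    rw [e, pullback.diagonal_snd_assoc]
    exact IsPullback.of_hasPullback f t
  rw [h0, h1, LimDesc62.prop_iff_of_isPullback (P := P) hsq, ht,
    ← prop_snd_iso_iff (P := P) (pullback.diagonal f) (pullback.fst ((pullback.snd f f ≫ f) ≫ g) (S.fromSpecResidueField s))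
      (pullbackRightPullbackFstIso g (S.fromSpecResidueField s) (pullback.snd f f ≫ f)).hom,
    pullbackRightPullbackFstIso_hom_fst]

theorem cons_universallyInjective (f : X ⟶ Y) (g : Y ⟶ S) [LocallyOfFiniteType f] [QuasiCompact f]
    [QuasiSeparated f] [LocallyOfFinitePresentation f]
    [LocallyOfFinitePresentation g] [QuasiCompact g] [QuasiSeparated g] :
    IsLocallyConstructible (goodSet @UniversallyInjective f g) := by
  have h : goodSet @UniversallyInjective f g =
      goodSet @Surjective (pullback.diagonal f) ((pullback.snd f f ≫ f) ≫ g) := by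
    ext s
    show UniversallyInjective (fib f g s) ↔ _
    rw [universallyInjective_eq_diagonal]
    exact fib_diagonal_iff f g s
  rw [h]
  have := LimDesc62.lfp_diagonal f
  exact cons_surjective _ _

end Groth.Agent.Cons62

namespace Groth.Agent.Cons62

set_option backward.isDefEq.respectTransparency.types false in
theorem respectsIso_surjective :
    MorphismProperty.RespectsIso (@Surjective : MorphismProperty Scheme.{u}) := inferInstance

set_option backward.isDefEq.respectTransparency.types false in
theorem respectsIso_universallyInjective :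
    MorphismProperty.RespectsIso (@UniversallyInjective : MorphismProperty Scheme.{u}) := inferInstance

/-- The hypotheses on `f` implied by those on `g` and `f ≫ g`. -/
theorem fp_hyps {X Y S : Scheme.{u}} (f : X ⟶ Y) (g : Y ⟶ S)
    [LocallyOfFinitePresentation g] [QuasiCompact g] [QuasiSeparated g]
    [LocallyOfFinitePresentation (f ≫ g)] [QuasiCompact (f ≫ g)] [QuasiSeparated (f ≫ g)] :
    LocallyOfFinitePresentation f ∧ QuasiCompact f ∧ QuasiSeparated f :=
  ⟨LimDesc62.lfp_of_comp f g, QuasiCompact.of_comp f g, QuasiSeparated.of_comp f g⟩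

end Groth.Agent.Cons62
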