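import Groth.Agent.GenFree62.Generic
import Mathlib.RingTheory.LocalRing.ResidueField.Fiber
import Mathlib.RingTheory.Spectrum.Prime.ConstructibleSet
import Mathlib.RingTheory.Ideal.MinimalPrime.Localization
import Mathlib.RingTheory.Ideal.MinimalPrime.Noetherian

/-! Over a Noetherian domain, closure commutes with passing to a general fibre. -/

set_option autoImplicit false
universe u

open TensorProduct PrimeSpectrum

namespace Groth.Agent.Cons62

variable {A : Type u} [CommRing A]

/-- Base change to an algebra inverting `f` keeps an injection injective when the cokernel becomes free. -/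
theorem baseChange_injective_of_freeAway {f : A} {N M : Type u} [AddCommGroup N] [Module A N]
    [AddCommGroup M] [Module A M] (μ : N →ₗ[A] M) (hμ : Function.Injective μ)
    (h : GenFree62.FreeAway f (M ⧸ LinearMap.range μ))
    (F : Type u) [CommRing F] [Algebra A F] (hu : IsUnit (algebraMap A F f)) :
    Function.Injective (μ.baseChange F) := by
  let A' := Localization.Away f
  have : Module.Flat A A' := IsLocalization.flat _ (Submonoid.powers f)
  have := h A' (IsLocalization.Away.algebraMap_isUnit f)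
  let μ' := μ.baseChange A'
  let π' := (LinearMap.range μ).mkQ.baseChange A'
  have hinj : Function.Injective μ' := Module.Flat.lTensor_preserves_injective_linearMap μ hμ
  have hex : Function.Exact μ' π' := lTensor_exact A' (LinearMap.exact_map_mkQ_range μ)
    (Submodule.mkQ_surjective _)
  have hsurj : Function.Surjective π' := LinearMap.lTensor_surjective A' (Submodule.mkQ_surjective _)
  obtain ⟨s, hs⟩ := Module.projective_lifting_property π' LinearMap.id hsurj
  obtain ⟨r, hr⟩ : ∃ r, r ∘ₗ μ' = LinearMap.id :=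
    ((Function.Exact.split_tfae hex hinj hsurj).out 0 1 rfl rfl).mp ⟨s, hs⟩
  letI := (IsLocalization.Away.lift f hu : A' →+* F).toAlgebra
  have : IsScalarTower A A' F := IsScalarTower.of_algebraMap_eq fun a =>
    (IsLocalization.Away.lift_eq f hu a).symm
  let eN := AlgebraTensorModule.cancelBaseChange A A' F F N
  let eM := AlgebraTensorModule.cancelBaseChange A A' F F M
  have hcomm : ∀ x, μ.baseChange F (eN x) = eM (μ'.baseChange F x) := fun x => by
    induction x using TensorProduct.induction_on with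
    | zero => simp
    | add x y hx hy => simp [hx, hy]
    | tmul a y =>
      induction y using TensorProduct.induction_on with
      | zero => simp
      | add x y hx hy => simp only [tmul_add, map_add, hx, hy]
      | tmul b n => simp [eN, eM, μ']
  have hinj' : Function.Injective (μ'.baseChange F) := by
    refine Function.LeftInverse.injective (g := r.baseChange F) fun x => ?_
    rw [← LinearMap.comp_apply, ← LinearMap.baseChange_comp, hr, LinearMap.baseChange_id]
    rfl
  intro x y hxy
  obtain ⟨x, rfl⟩ := eN.surjective x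
  obtain ⟨y, rfl⟩ := eN.surjective y
  rw [hcomm, hcomm] at hxy
  rw [hinj' (eM.injective hxy)]

variable [IsDomain A] [IsNoetherianRing A]

theorem exists_generization_fibre {C : Type u} [CommRing C] [Algebra A C] [Algebra.FiniteType A C]
    (b : C) (hb : b ∈ nonZeroDivisors C) :
    ∃ h : A, h ≠ 0 ∧ ∀ P : PrimeSpectrum C, algebraMap A C h ∉ P.asIdeal →
      ∃ P' : PrimeSpectrum C, P' ≤ P ∧ b ∉ P'.asIdeal ∧
        comap (algebraMap A C) P' = comap (algebraMap A C) P := by
  let μ : C →ₗ[A] C := LinearMap.mulLeft A b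
  have hμ : Function.Injective μ := fun x y hxy => by
    have h1 : (x - y) * b = 0 := by rw [sub_mul, mul_comm x, mul_comm y, sub_eq_zero]; exact hxy
    exact sub_eq_zero.mp ((mem_nonZeroDivisors_iff.mp hb).2 _ h1)
  let N : Submodule C C := LinearMap.range (LinearMap.mulLeft C b)
  obtain ⟨h, h0, hfree⟩ := GenFree62.exists_freeAway (A := A) (B := C) (M := C ⧸ N)
  have hrange : LinearMap.range μ = N.restrictScalars A := SetLike.ext fun _ => Iff.rfl
  have hfree' : GenFree62.FreeAway h (C ⧸ LinearMap.range μ) :=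
    hfree.of_equiv ((Submodule.Quotient.restrictScalarsEquiv A N).symm ≪≫ₗ
      Submodule.quotEquivOfEq _ _ hrange.symm)
  refine ⟨h, h0, fun P hP => ?_⟩
  let p := comap (algebraMap A C) P
  let D := p.asIdeal.Fiber C
  have hu : IsUnit (algebraMap A p.asIdeal.ResidueField h) := by
    rw [isUnit_iff_ne_zero, ne_eq, Ideal.algebraMap_residueField_eq_zero]
    exact hP
  have hinj := baseChange_injective_of_freeAway μ hμ hfree' p.asIdeal.ResidueField hu
  let b' : D := Algebra.TensorProduct.includeRight b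
  have hb' : b' ∈ nonZeroDivisors D := by
    rw [mem_nonZeroDivisors_iff_right]
    intro x hx
    apply hinj
    rw [map_zero, ← hx]
    clear hx
    induction x using TensorProduct.induction_on with
    | zero => simp
    | add x y hx hy => simp [hx, hy, add_mul]
    | tmul a c =>
      show μ.baseChange _ (a ⊗ₜ c) = (a ⊗ₜ[A] c : p.asIdeal.ResidueField ⊗[A] C) * (1 ⊗ₜ[A] b)
      rw [LinearMap.baseChange_tmul, Algebra.TensorProduct.tmul_mul_tmul, mul_one, mul_comm c]
      rfl
  let e := preimageOrderIsoFiber A C p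
  let Q := e ⟨P, rfl⟩
  obtain ⟨q, hq, hqQ⟩ := Ideal.exists_minimalPrimes_le (I := (⊥ : Ideal D)) (J := Q.asIdeal) bot_le
  have : q.IsPrime := hq.1.1
  let R : comap (algebraMap A C) ⁻¹' {p} := e.symm ⟨q, inferInstance⟩
  refine ⟨R.1, ?_, ?_, R.2⟩
  · have h1 : e.symm ⟨q, inferInstance⟩ ≤ e.symm Q := e.symm.monotone hqQ
    rwa [OrderIso.symm_apply_apply] at h1
  · intro hmem
    exact Set.disjoint_left.mp (Ideal.disjoint_nonZeroDivisors_of_mem_minimalPrimes hq)
      (show b' ∈ q from hmem) hb'

variable {B : Type u} [CommRing B] [Algebra A B] [Algebra.FiniteType A B]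

/-- In a general fibre, every point of the closure of a constructible set is a specialisation of a
point of the set in the same fibre. -/
theorem exists_closure_fibre {Z : Set (PrimeSpectrum B)} (hZ : Topology.IsConstructible Z) :
    ∃ h : A, h ≠ 0 ∧ ∀ P ∈ closure Z, algebraMap A B h ∉ P.asIdeal →
      ∃ P' ∈ Z, P' ⤳ P ∧ comap (algebraMap A B) P' = comap (algebraMap A B) P := by
  classical
  have : IsNoetherianRing B := Algebra.FiniteType.isNoetherianRing A B
  obtain ⟨s, rfl⟩ := exists_constructibleSetData_iff.mpr hZ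
  have key : ∀ C : BasicConstructibleSetData B, ∀ q : Ideal B, q ∈ (Ideal.span (Set.range C.g)).minimalPrimes →
      C.f ∉ q → ∃ h : A, h ≠ 0 ∧ ∀ P : PrimeSpectrum B, q ≤ P.asIdeal → algebraMap A B h ∉ P.asIdeal →
        ∃ P' ∈ C.toSet, P' ⤳ P ∧ comap (algebraMap A B) P' = comap (algebraMap A B) P := by
    intro C q hq hf
    have : q.IsPrime := hq.1.1
    obtain ⟨h, h0, hh⟩ := exists_generization_fibre (A := A) (Ideal.Quotient.mk q C.f)
      (mem_nonZeroDivisors_of_ne_zero (by rwa [ne_eq, Ideal.Quotient.eq_zero_iff_mem]))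
    refine ⟨h, h0, fun P hqP hP => ?_⟩
    obtain ⟨P₁, hP₁⟩ : P ∈ Set.range (comap (Ideal.Quotient.mk q)) := by
      rw [range_comap_of_surjective _ _ Ideal.Quotient.mk_surjective, Ideal.mk_ker]
      exact hqP
    subst hP₁
    obtain ⟨P', hle, hbP, hcomap⟩ := hh P₁ hP
    refine ⟨comap (Ideal.Quotient.mk q) P', ⟨?_, fun hz => hbP (hz (Set.mem_singleton C.f))⟩,
      (le_iff_specializes _ _).mp (Ideal.comap_mono hle), hcomap⟩
    intro x hx
    show Ideal.Quotient.mk q x ∈ P'.asIdeal
    rw [Ideal.Quotient.eq_zero_iff_mem.mpr (hq.1.2 (Ideal.subset_span hx))]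
    exact zero_mem _
  let T := fun C : BasicConstructibleSetData B =>
    ((Ideal.finite_minimalPrimes_of_isNoetherianRing B (Ideal.span (Set.range C.g))).toFinset.filter
      (fun q => C.f ∉ q))
  have hcl : closure (ConstructibleSetData.toSet s) ⊆
      ⋃ C ∈ s, ⋃ q ∈ T C, zeroLocus (q : Set B) := by
    refine closure_minimal ?_ (isClosed_biUnion_finset fun C _ =>
      isClosed_biUnion_finset fun q _ => isClosed_zeroLocus _)
    intro P hP
    obtain ⟨C, hC, hg, hf⟩ := Set.mem_iUnion₂.mp hP
    obtain ⟨q, hq, hqP⟩ := Ideal.exists_minimalPrimes_le (J := P.asIdeal) (Ideal.span_le.mpr hg)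
    refine Set.mem_iUnion₂.mpr ⟨C, hC, Set.mem_iUnion₂.mpr ⟨q, ?_, hqP⟩⟩
    simp only [T, Finset.mem_filter, Set.Finite.mem_toFinset]
    exact ⟨hq, fun hfq => hf (Set.singleton_subset_iff.mpr (hqP hfq))⟩
  choose h h0 hh using fun (x : {x : BasicConstructibleSetData B × Ideal B // x.2 ∈ T x.1}) =>
    key x.1.1 x.1.2 ((Set.Finite.mem_toFinset _).mp (Finset.mem_filter.mp x.2).1) (Finset.mem_filter.mp x.2).2
  refine ⟨∏ C ∈ s, ∏ q ∈ (T C).attach, h ⟨(C, q.1), q.2⟩,
    Finset.prod_ne_zero_iff.mpr fun C _ => Finset.prod_ne_zero_iff.mpr fun q _ => h0 _, fun P hP hPh => ?_⟩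
  obtain ⟨C, hC, hP'⟩ := Set.mem_iUnion₂.mp (hcl hP)
  obtain ⟨q, hq, hqP⟩ := Set.mem_iUnion₂.mp hP'
  obtain ⟨P', hP'Z, h1, h2⟩ := hh ⟨(C, q), hq⟩ P hqP fun hmem => hPh <| P.asIdeal.mem_of_dvd
    (map_dvd _ ((Finset.dvd_prod_of_mem _ (Finset.mem_attach _ ⟨q, hq⟩)).trans
      (Finset.dvd_prod_of_mem (fun C => ∏ q ∈ (T C).attach, h ⟨(C, q.1), q.2⟩) hC))) hmem
  exact ⟨P', Set.mem_iUnion₂.mpr ⟨C, hC, hP'Z⟩, h1, h2⟩

end Groth.Agent.Cons62
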