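import Mathlib.RingTheory.Extension.Presentation.Core
import Mathlib.RingTheory.FinitePresentation
import Mathlib.AlgebraicGeometry.Pullbacks
import Mathlib.RingTheory.Spectrum.Prime.ConstructibleSet

/-! Finitely presented algebras, with finitely many elements or constructible sets, come from a
Noetherian subring. -/

set_option autoImplicit false
universe u

open TensorProduct CategoryTheory AlgebraicGeometry

namespace Groth.Agent.Cons62

theorem exists_model {A B : Type u} [CommRing A] [CommRing B] [Algebra A B]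
    [Algebra.FinitePresentation A B] {t : Set B} (ht : t.Finite) :
    ∃ (A₀ : Subalgebra ℤ A) (B₀ : Type u) (_ : CommRing B₀) (_ : Algebra A₀ B₀) (e : A ⊗[A₀] B₀ ≃ₐ[A] B),
      IsNoetherianRing A₀ ∧ Algebra.FinitePresentation A₀ B₀ ∧
        t ⊆ Set.range (fun b : B₀ => e (1 ⊗ₜ b)) := by
  classical
  let P := Algebra.Presentation.ofFinitePresentation A B
  choose g hg using fun b : B => P.toGenerators.algebraMap_surjective b
  let cs : Set A := P.coeffs ∪ ⋃ b ∈ t, ((g b).coeffs : Set A)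
  have hcs : cs.Finite := P.finite_coeffs.union (ht.biUnion fun b _ => Finset.finite_toSet _)
  let A₀ : Subalgebra ℤ A := Algebra.adjoin ℤ cs
  have : Algebra.FiniteType ℤ A₀ := .adjoin_of_finite hcs
  have : IsNoetherianRing A₀ := Algebra.FiniteType.isNoetherianRing ℤ A₀
  have : P.HasCoeffs A₀ := ⟨fun x hx => ⟨⟨x, Algebra.subset_adjoin (Or.inl hx)⟩, rfl⟩⟩
  refine ⟨A₀, P.ModelOfHasCoeffs A₀, inferInstance, inferInstance, P.tensorModelOfHasCoeffsEquiv A₀,
    inferInstance, inferInstance, fun b hb => ?_⟩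
  obtain ⟨y, hy⟩ : g b ∈ Set.range (MvPolynomial.map (algebraMap A₀ A)) := by
    rw [MvPolynomial.mem_range_map_iff_coeffs_subset]
    intro x hx
    exact ⟨⟨x, Algebra.subset_adjoin (Or.inr (Set.mem_biUnion hb hx))⟩, rfl⟩
  refine ⟨Ideal.Quotient.mk _ y, ?_⟩
  show P.tensorModelOfHasCoeffsEquiv A₀ (1 ⊗ₜ Ideal.Quotient.mk _ y) = b
  rw [P.tensorModelOfHasCoeffsEquiv_tmul, map_one, one_mul, ← MvPolynomial.aeval_map_algebraMap A, hy]
  rw [← P.algebraMap_apply]
  exact hg b

theorem exists_isPullback_model {A B : Type u} [CommRing A] [CommRing B] (φ : A →+* B)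
    (hφ : φ.FinitePresentation) (s : List (PrimeSpectrum.ConstructibleSetData B)) :
    ∃ (A₀ B₀ : Type u) (_ : CommRing A₀) (_ : CommRing B₀) (φ₀ : A₀ →+* B₀) (α : A₀ →+* A) (β : B₀ →+* B),
      IsNoetherianRing A₀ ∧ φ₀.FinitePresentation ∧
      IsPullback (Spec.map (CommRingCat.ofHom β)) (Spec.map (CommRingCat.ofHom φ))
        (Spec.map (CommRingCat.ofHom φ₀)) (Spec.map (CommRingCat.ofHom α)) ∧
      ∀ D ∈ s, ∃ D₀ : PrimeSpectrum.ConstructibleSetData B₀, D.toSet = PrimeSpectrum.comap β ⁻¹' D₀.toSet := by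
  classical
  algebraize [φ]
  let t : Set B := ⋃ D ∈ {D | D ∈ s}, ⋃ C ∈ (D : Set (PrimeSpectrum.BasicConstructibleSetData B)),
    insert C.f (Set.range C.g)
  have ht : t.Finite := (List.finite_toSet s).biUnion fun D _ =>
    (Finset.finite_toSet D).biUnion fun C _ => (Set.finite_range C.g).insert _
  obtain ⟨A₀, B₀, _, _, e, hN, hfp, hsub⟩ := exists_model (A := A) ht
  let β : B₀ →+* B := e.toRingHom.comp Algebra.TensorProduct.includeRight.toRingHom
  refine ⟨A₀, B₀, inferInstance, inferInstance, algebraMap A₀ B₀, algebraMap A₀ A, β, hN,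
    RingHom.finitePresentation_algebraMap.mpr hfp, ?_, fun D hD => ?_⟩
  · have hpo := CommRingCat.isPushout_tensorProduct A₀ A B₀
    have h := isPullback_SpecMap_of_isPushout _ _ _ _ hpo
    refine (h.flip.of_iso (Scheme.Spec.mapIso (e.toRingEquiv.toCommRingCatIso).op).symm (Iso.refl _) (Iso.refl _)
      (Iso.refl _) ?_ ?_ (by simp) (by simp))
    · simp only [Iso.refl_hom, Category.comp_id, Iso.symm_hom]
      rw [Iso.eq_inv_comp, Functor.mapIso_hom, Iso.op_hom]
      show Spec.map _ ≫ Spec.map _ = _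
      rw [← Spec.map_comp]
      rfl
    · simp only [Iso.refl_hom, Category.comp_id, Iso.symm_hom]
      rw [Iso.eq_inv_comp, Functor.mapIso_hom, Iso.op_hom]
      show Spec.map _ ≫ Spec.map _ = _
      rw [← Spec.map_comp]
      congr 1
      ext a
      exact (e.commutes a)
  · have hC : ∀ C ∈ D, ∃ C₀ : PrimeSpectrum.BasicConstructibleSetData B₀, C₀.map β = C := by
      intro C hC
      have hmem : ∀ b ∈ insert C.f (Set.range C.g), ∃ b₀, β b₀ = b := fun b hb =>
        hsub (Set.mem_biUnion hD (Set.mem_biUnion hC hb))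
      obtain ⟨f₀, hf₀⟩ := hmem C.f (Set.mem_insert _ _)
      choose g₀ hg₀ using fun i => hmem (C.g i) (Set.mem_insert_of_mem _ ⟨i, rfl⟩)
      exact ⟨⟨f₀, C.n, g₀⟩, by simp only [PrimeSpectrum.BasicConstructibleSetData.map, hf₀, Function.comp_def, hg₀]⟩
    choose C₀ hC₀ using hC
    refine ⟨D.attach.image fun C => C₀ C.1 C.2, ?_⟩
    rw [← PrimeSpectrum.ConstructibleSetData.toSet_map]
    congr 1
    ext C
    simp only [PrimeSpectrum.ConstructibleSetData.map, Finset.image_image, Finset.mem_image, Function.comp_apply]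
    constructor
    · exact fun hC => ⟨⟨C, hC⟩, Finset.mem_attach _ _, hC₀ C hC⟩
    · rintro ⟨C', -, rfl⟩
      rw [hC₀]
      exact C'.2

end Groth.Agent.Cons62
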