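import Groth.Agent.Cons62.Basic
import Groth.Agent.Cons62.Core
import Groth.Agent.Cons62.Model
import Groth.Agent.ConstrTop58.Basic
import Mathlib.Topology.LocallyClosed
import Mathlib.AlgebraicGeometry.Morphisms.UniversallyOpen

/-! Constructibility of topological properties of fibres of constructible sets:
being dense, closed, open, locally closed. -/

set_option autoImplicit false
universe u

open CategoryTheory CategoryTheory.Limits AlgebraicGeometry TopologicalSpace Topology Set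

namespace Groth.Agent.Cons62

/-- A property of a pair of subsets of a topological space, invariant under jointly surjective
families of open continuous maps, which over a Noetherian domain is constructible on a nonempty
basic open of the base for pairs of constructible sets on a finite type algebra. -/
structure FibrePred where
  Φ : ∀ (F : Type u) [TopologicalSpace F], Set F → Set F → Prop
  inv : ∀ {F : Type u} [TopologicalSpace F] {ι : Type u} {G : ι → Type u} [∀ i, TopologicalSpace (G i)]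
    (m : ∀ i, G i → F), (∀ i, Continuous (m i)) → (∀ i, IsOpenMap (m i)) → (∀ x, ∃ i y, m i y = x) →
    ∀ a b, Φ F a b ↔ ∀ i, Φ (G i) (m i ⁻¹' a) (m i ⁻¹' b)

theorem FibrePred.inv₁ (Φ : FibrePred.{u}) {F G : Type u} [TopologicalSpace F] [TopologicalSpace G]
    (m : G → F) (hc : Continuous m) (ho : IsOpenMap m) (hs : Function.Surjective m) (a b : Set F) :
    Φ.Φ F a b ↔ Φ.Φ G (m ⁻¹' a) (m ⁻¹' b) :=
  (Φ.inv (ι := PUnit) (fun _ => m) (fun _ => hc) (fun _ => ho)
    (fun x => (hs x).elim fun y hy => ⟨⟨⟩, y, hy⟩) a b).trans ⟨fun h => h ⟨⟩, fun h _ => h⟩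

variable (Φ : FibrePred.{u}) {X S : Scheme.{u}}

/-- The points of the base whose fibre has the property. -/
def FibrePred.set (f : X ⟶ S) (a b : Set X) : Set S :=
  {s | Φ.Φ (f.fiber s) (f.fiberι s ⁻¹' a) (f.fiberι s ⁻¹' b)}

theorem exists_fibre_map {P X S' S : Scheme.{u}} {p : P ⟶ X} {q : P ⟶ S'} {f : X ⟶ S} {g : S' ⟶ S}
    (h : IsPullback p q f g) (s' : S') :
    ∃ m : q.fiber s' ⟶ f.fiber (g s'), IsOpenMap m ∧ Function.Surjective m ∧
      m ≫ f.fiberι (g s') = q.fiberι s' ≫ p := by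
  let m : q.fiber s' ⟶ f.fiber (g s') := pullback.lift (q.fiberι s' ≫ p)
    (q.fiberToSpecResidueField s' ≫ Spec.map (g.residueFieldMap s')) (by
      show (pullback.fst _ _ ≫ p) ≫ f = (pullback.snd _ _ ≫ _) ≫ _
      rw [Category.assoc, Category.assoc, h.w, pullback.condition_assoc,
        Scheme.Hom.SpecMap_residueFieldMap_fromSpecResidueField])
  have hm : IsPullback m (q.fiberToSpecResidueField s') (f.fiberToSpecResidueField (g s'))
      (Spec.map (g.residueFieldMap s')) := by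
    refine IsPullback.of_right ?_ (pullback.lift_snd _ _ _) (IsPullback.of_hasPullback f _)
    erw [pullback.lift_fst, Scheme.Hom.SpecMap_residueFieldMap_fromSpecResidueField]
    exact (IsPullback.of_hasPullback q (S'.fromSpecResidueField s')).paste_horiz h
  have : UniversallyOpen m := MorphismProperty.of_isPullback hm.flip inferInstance
  have hsurj : Surjective (Spec.map (g.residueFieldMap s')) :=
    ⟨fun x => ⟨IsLocalRing.closedPoint _, Subsingleton.elim (α := PrimeSpectrum (S.residueField (g s'))) _ x⟩⟩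
  have : Surjective m := MorphismProperty.of_isPullback hm.flip hsurj
  exact ⟨m, m.isOpenMap, m.surjective, pullback.lift_fst _ _ _⟩

theorem FibrePred.set_of_isPullback {P X S' S : Scheme.{u}} {p : P ⟶ X} {q : P ⟶ S'} {f : X ⟶ S}
    {g : S' ⟶ S} (h : IsPullback p q f g) (a b : Set X) :
    Φ.set q (p ⁻¹' a) (p ⁻¹' b) = g ⁻¹' Φ.set f a b := by
  ext s'
  obtain ⟨m, ho, hs, hm⟩ := exists_fibre_map h s'
  show Φ.Φ _ _ _ ↔ Φ.Φ _ _ _
  rw [Φ.inv₁ m m.continuous ho hs]
  have hm' : ∀ x, f.fiberι (g s') (m x) = p (q.fiberι s' x) := fun x => by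
    rw [← Scheme.Hom.comp_apply, hm, Scheme.Hom.comp_apply]
  simp only [← Set.preimage_comp, Function.comp_def, hm']

theorem FibrePred.set_of_cover {ι : Type u} (f : X ⟶ S) (U : ι → Scheme.{u}) (u : ∀ i, U i ⟶ X)
    [∀ i, IsOpenImmersion (u i)] (hU : ∀ x, ∃ i y, u i y = x) (a b : Set X) :
    Φ.set f a b = ⋂ i, Φ.set (u i ≫ f) (u i ⁻¹' a) (u i ⁻¹' b) := by
  ext s
  let m : ∀ i, (u i ≫ f).fiber s ⟶ f.fiber s := fun i =>
    pullback.lift ((u i ≫ f).fiberι s ≫ u i) ((u i ≫ f).fiberToSpecResidueField s)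
      ((Category.assoc _ _ _).trans pullback.condition)
  have hm : ∀ i, IsPullback ((u i ≫ f).fiberι s) (m i) (u i) (f.fiberι s) := fun i => by
    refine IsPullback.of_bot ?_ (pullback.lift_fst _ _ _).symm (IsPullback.of_hasPullback f _)
    erw [pullback.lift_snd]
    exact IsPullback.of_hasPullback (u i ≫ f) _
  have : ∀ i, IsOpenImmersion (m i) := fun i => MorphismProperty.of_isPullback (hm i) inferInstance
  have hcov : ∀ z : f.fiber s, ∃ i y, m i y = z := fun z => by
    obtain ⟨i, y, hy⟩ := hU (f.fiberι s z)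
    obtain ⟨w, -, hw⟩ := Scheme.exists_preimage_of_isPullback (hm i) y z hy
    exact ⟨i, w, hw⟩
  show Φ.Φ _ _ _ ↔ s ∈ ⋂ i, _
  rw [Φ.inv (fun i => ⇑(m i)) (fun i => (m i).continuous) (fun i => (m i).isOpenEmbedding.isOpenMap) hcov,
    Set.mem_iInter]
  have hm' : ∀ i y, f.fiberι s (m i y) = u i ((u i ≫ f).fiberι s y) := fun i y => by
    rw [← Scheme.Hom.comp_apply, ← (hm i).w, Scheme.Hom.comp_apply]
  refine forall_congr' fun i => ?_
  simp only [FibrePred.set, Set.mem_ofPred_eq, ← Set.preimage_comp, Function.comp_def, hm']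

/-- `Φ` is constructible over some nonempty open of the spectrum of any Noetherian domain. -/
def FibrePred.Generic : Prop :=
  ∀ (A B : Type u) [CommRing A] [IsDomain A] [IsNoetherianRing A] [CommRing B] (φ : A →+* B),
    φ.FiniteType → ∀ a b : Set (Spec (CommRingCat.of B)), IsConstructible a → IsConstructible b →
      ∃ h : A, h ≠ 0 ∧ IsConstructible
        ((PrimeSpectrum.basicOpen h : Set (PrimeSpectrum A)) ∩ Φ.set (Spec.map (CommRingCat.ofHom φ)) a b)

theorem isConstructible_of_forall_prime {A : Type u} [CommRing A] [IsNoetherianRing A]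
    {E : Set (PrimeSpectrum A)}
    (H : ∀ p : PrimeSpectrum A, ∃ h : A, h ∉ p.asIdeal ∧
      IsConstructible (PrimeSpectrum.zeroLocus (p.asIdeal : Set A) ∩ PrimeSpectrum.basicOpen h ∩ E)) :
    IsConstructible E := by
  suffices ∀ C : Set (PrimeSpectrum A), IsClosed C → IsConstructible (E ∩ C) by
    simpa using this univ isClosed_univ
  refine ConstrTop58.closed_induction (by simp) (fun C D _ _ hC hD => ?_) fun Y hY hYi ih => ?_
  · rw [inter_union_distrib_left]; exact hC.union hD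
  · obtain ⟨η, hη⟩ := QuasiSober.sober hYi hY
    have hY' : Y = PrimeSpectrum.zeroLocus (η.asIdeal : Set A) := by
      rw [← hη.def, PrimeSpectrum.closure_singleton]
    obtain ⟨h, hh, hc⟩ := H η
    have hopen : IsOpen (PrimeSpectrum.basicOpen h : Set (PrimeSpectrum A)) := (PrimeSpectrum.basicOpen h).2
    have hlt : Y \ PrimeSpectrum.basicOpen h ⊂ Y := by
      refine ⟨diff_subset, fun hle => (hle hη.mem).2 hh⟩
    have h1 := ih _ (hY.sdiff hopen) hlt
    rw [← hY'] at hc
    have : E ∩ Y = (Y ∩ PrimeSpectrum.basicOpen h ∩ E) ∪ (E ∩ (Y \ PrimeSpectrum.basicOpen h)) := by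
      ext x; simp only [mem_inter_iff, mem_union, mem_sdiff]; tauto
    rw [this]
    exact hc.union h1

theorem FibrePred.cons_noetherian (hΦ : Φ.Generic) {A B : Type u} [CommRing A] [IsNoetherianRing A]
    [CommRing B] (φ : A →+* B) (hφ : φ.FiniteType) {a b : Set (Spec (CommRingCat.of B))}
    (ha : IsConstructible a) (hb : IsConstructible b) :
    IsConstructible (Φ.set (Spec.map (CommRingCat.ofHom φ)) a b) := by
  refine isConstructible_of_forall_prime fun p => ?_
  algebraize [φ]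
  let A' := A ⧸ p.asIdeal
  have hpo := CommRingCat.isPushout_tensorProduct A A' B
  have hsq := (isPullback_SpecMap_of_isPushout _ _ _ _ hpo).flip
  let pr : Spec (CommRingCat.of (TensorProduct A A' B)) ⟶ Spec (CommRingCat.of B) :=
    Spec.map (CommRingCat.ofHom (Algebra.TensorProduct.includeRight (R := A) (A := A') (B := B)).toRingHom)
  obtain ⟨h, hh, hc⟩ := hΦ A' (TensorProduct A A' B) Algebra.TensorProduct.includeLeftRingHom
    (RingHom.finiteType_algebraMap.mpr (inferInstance : Algebra.FiniteType A' (TensorProduct A A' B)))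
    (pr ⁻¹' a) (pr ⁻¹' b) (pr.isConstructible_preimage ha) (pr.isConstructible_preimage hb)
  obtain ⟨h, rfl⟩ := Ideal.Quotient.mk_surjective h
  refine ⟨h, fun hp => hh (Ideal.Quotient.eq_zero_iff_mem.mpr hp), ?_⟩
  let c : PrimeSpectrum A' → PrimeSpectrum A := PrimeSpectrum.comap (Ideal.Quotient.mk p.asIdeal)
  have he := PrimeSpectrum.isClosedEmbedding_comap_of_surjective A' (Ideal.Quotient.mk p.asIdeal)
    Ideal.Quotient.mk_surjective
  rw [FibrePred.set_of_isPullback Φ hsq a b] at hc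
  have := hc.image_of_isClosedEmbedding he (fun U _ _ => TopologicalSpace.NoetherianSpace.isCompact _)
  convert this using 1
  ext x
  constructor
  · rintro ⟨⟨hx, hxh⟩, hxE⟩
    obtain ⟨y, rfl⟩ : x ∈ Set.range (PrimeSpectrum.comap (Ideal.Quotient.mk p.asIdeal)) := by
      rw [range_comap_of_surjective _ _ Ideal.Quotient.mk_surjective, Ideal.mk_ker]
      exact hx
    exact ⟨y, ⟨hxh, hxE⟩, rfl⟩
  · rintro ⟨y, ⟨hy1, hy2⟩, rfl⟩
    refine ⟨⟨fun z hz => ?_, hy1⟩, hy2⟩
    show Ideal.Quotient.mk p.asIdeal z ∈ y.asIdeal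
    rw [Ideal.Quotient.eq_zero_iff_mem.mpr hz]
    exact zero_mem _

theorem isLocallyConstructible_preimage {X Y : Scheme.{u}} (f : X ⟶ Y) {s : Set Y}
    (hs : IsLocallyConstructible s) : IsLocallyConstructible (f ⁻¹' s) := by
  refine .of_isOpenCover (U := fun V : Y.affineOpens => f ⁻¹ᵁ V.1) ?_ fun V => ?_
  · refine TopologicalSpace.IsOpenCover.mk (top_le_iff.mp fun x _ => ?_)
    obtain ⟨_, ⟨V, hV, rfl⟩, hx, -⟩ := Y.isBasis_affineOpens.exists_subset_of_mem_open (mem_univ (f x)) isOpen_univ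
    exact Opens.mem_iSup.mpr ⟨⟨V, hV⟩, hx⟩
  · have : IsAffine (V.1 : Scheme.{u}) := V.2
    have h1 : IsConstructible (V.1.ι ⁻¹' s) :=
      (hs.preimage_of_isOpenEmbedding V.1.ι.isOpenEmbedding).isConstructible
    have h2 := (f ∣_ V.1).isConstructible_preimage h1
    have h3 : (f ⁻¹ᵁ V.1).ι ⁻¹' (f ⁻¹' s) = (f ∣_ V.1) ⁻¹' (V.1.ι ⁻¹' s) := by
      rw [← Set.preimage_comp, ← Set.preimage_comp]
      congr 1
      funext x
      simp only [Function.comp_apply]
      rw [← Scheme.Hom.comp_apply, ← morphismRestrict_ι, Scheme.Hom.comp_apply]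
    show IsLocallyConstructible ((f ⁻¹ᵁ V.1).ι ⁻¹' (f ⁻¹' s))
    rw [h3]
    exact h2.isLocallyConstructible

theorem FibrePred.cons_spec (hΦ : Φ.Generic) {A B : Type u} [CommRing A] [CommRing B] (φ : A →+* B)
    (hφ : φ.FinitePresentation) {a b : Set (Spec (CommRingCat.of B))}
    (ha : IsConstructible a) (hb : IsConstructible b) :
    IsConstructible (Φ.set (Spec.map (CommRingCat.ofHom φ)) a b) := by
  obtain ⟨da, rfl⟩ := PrimeSpectrum.exists_constructibleSetData_iff.mpr ha
  obtain ⟨db, rfl⟩ := PrimeSpectrum.exists_constructibleSetData_iff.mpr hb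
  obtain ⟨A₀, B₀, _, _, φ₀, α, β, hN, hφ₀, hsq, hD⟩ := exists_isPullback_model φ hφ [da, db]
  obtain ⟨a₀, ha₀⟩ := hD da (by simp)
  obtain ⟨b₀, hb₀⟩ := hD db (by simp)
  rw [ha₀, hb₀]
  erw [FibrePred.set_of_isPullback Φ hsq]
  exact (Spec.map (CommRingCat.ofHom α)).isConstructible_preimage
    (Φ.cons_noetherian hΦ φ₀ (RingHom.FiniteType.of_finitePresentation hφ₀)
      (PrimeSpectrum.ConstructibleSetData.isConstructible_toSet a₀)
      (PrimeSpectrum.ConstructibleSetData.isConstructible_toSet b₀))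

theorem FibrePred.cons (hΦ : Φ.Generic) (f : X ⟶ S) [LocallyOfFinitePresentation f] [QuasiCompact f]
    {a b : Set X} (ha : IsLocallyConstructible a) (hb : IsLocallyConstructible b) :
    IsLocallyConstructible (Φ.set f a b) := by
  refine .of_isOpenCover (U := fun V : S.affineOpens => V.1) ?_ fun V => ?_
  · refine TopologicalSpace.IsOpenCover.mk (top_le_iff.mp fun x _ => ?_)
    obtain ⟨_, ⟨V, hV, rfl⟩, hx, -⟩ := S.isBasis_affineOpens.exists_subset_of_mem_open (mem_univ x) isOpen_univ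
    exact Opens.mem_iSup.mpr ⟨⟨V, hV⟩, hx⟩
  have hsq := (isPullback_morphismRestrict f V.1).flip
  show IsLocallyConstructible (V.1.ι ⁻¹' Φ.set f a b)
  rw [← FibrePred.set_of_isPullback Φ hsq]
  have : IsAffine (V.1 : Scheme.{u}) := V.2
  have : CompactSpace ↥(f ⁻¹ᵁ V.1 : Scheme.{u}) := QuasiCompact.compactSpace_of_compactSpace (f ∣_ V.1)
  let 𝒰 := (f ⁻¹ᵁ V.1 : Scheme.{u}).affineCover.finiteSubcover
  rw [FibrePred.set_of_cover Φ (f ∣_ V.1) (fun i => 𝒰.X i) (fun i => 𝒰.f i)
    (fun x => ⟨_, 𝒰.covers x⟩)]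
  refine IsLocallyConstructible.iInter fun i => ?_
  have : LocallyOfFinitePresentation (f ∣_ V.1) :=
    MorphismProperty.of_isPullback hsq ‹LocallyOfFinitePresentation f›
  obtain ⟨A, eA⟩ : ∃ A, Nonempty ((V.1 : Scheme.{u}) ≅ Spec A) := ⟨_, ⟨(V.1 : Scheme.{u}).isoSpec⟩⟩
  obtain ⟨eA⟩ := eA
  obtain ⟨B, eB⟩ : ∃ B, Nonempty (𝒰.X i ≅ Spec B) := ⟨_, ⟨(𝒰.X i).isoSpec⟩⟩
  obtain ⟨eB⟩ := eB
  obtain ⟨φ, hφ⟩ := Spec.map_surjective (eB.inv ≫ (𝒰.f i ≫ f ∣_ V.1) ≫ eA.hom)
  have hlfp : LocallyOfFinitePresentation (Spec.map φ) := by rw [hφ]; infer_instance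
  rw [HasRingHomProperty.Spec_iff (P := @LocallyOfFinitePresentation)] at hlfp
  have hc := fun {Z : Set X} (hZ : IsLocallyConstructible Z) =>
    (isLocallyConstructible_preimage eB.inv (isLocallyConstructible_preimage (𝒰.f i)
      (isLocallyConstructible_preimage (f ⁻¹ᵁ V.1).ι hZ))).isConstructible
  have h3 := Φ.cons_spec hΦ φ.hom hlfp (hc ha) (hc hb)
  have hsq' : IsPullback eB.inv (Spec.map φ) (𝒰.f i ≫ f ∣_ V.1) eA.inv :=
    IsPullback.of_horiz_isIso ⟨by rw [hφ]; simp⟩
  rw [show Spec.map (CommRingCat.ofHom φ.hom) = Spec.map φ from rfl,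
    FibrePred.set_of_isPullback Φ hsq'] at h3
  have h4 := isLocallyConstructible_preimage eA.hom h3.isLocallyConstructible
  rw [← Set.preimage_comp] at h4
  convert h4 using 1
  ext x
  simp [← Scheme.Hom.comp_apply]

end Groth.Agent.Cons62
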