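import Groth.Agent.Cons62.FibrePreds
import Mathlib.AlgebraicGeometry.Morphisms.Immersion
import Mathlib.AlgebraicGeometry.Morphisms.Separated

/-! Constructibility of dominance and separatedness of the morphism induced on fibres. -/

set_option autoImplicit false
universe u

open CategoryTheory CategoryTheory.Limits AlgebraicGeometry TopologicalSpace Topology Set

namespace Groth.Agent.Cons62

variable {X Y S : Scheme.{u}}

theorem range_fib (f : X ⟶ Y) (g : Y ⟶ S) (s : S) :
    Set.range (fib f g s) = g.fiberι s ⁻¹' Set.range f :=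
  Scheme.Pullback.range_snd _ _

theorem goodSet_isDominant (f : X ⟶ Y) (g : Y ⟶ S) :
    goodSet @IsDominant f g = {s : S | g.fiberι s ⁻¹' (univ : Set Y) ⊆ closure (g.fiberι s ⁻¹' Set.range f)} := by
  ext s
  show IsDominant (fib f g s) ↔ g.fiberι s ⁻¹' (univ : Set Y) ⊆ closure (g.fiberι s ⁻¹' Set.range f)
  rw [isDominant_iff, DenseRange, dense_iff_closure_eq, range_fib, preimage_univ, univ_subset_iff]
  rfl

theorem goodSet_diagonal (P : MorphismProperty Scheme.{u}) [P.RespectsIso] (f : X ⟶ Y) (g : Y ⟶ S) :
    goodSet P.diagonal f g = goodSet P (pullback.diagonal f) ((pullback.snd f f ≫ f) ≫ g) :=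
  Set.ext fun s => fib_diagonal_iff f g s

theorem cons_isDominant (f : X ⟶ Y) (g : Y ⟶ S) [LocallyOfFinitePresentation f] [QuasiCompact f]
    [LocallyOfFinitePresentation g] [QuasiCompact g] :
    IsLocallyConstructible (goodSet @IsDominant f g) := by
  rw [goodSet_isDominant]
  exact cons_dense g (isLocallyConstructible_range f) .univ

set_option backward.isDefEq.respectTransparency.types false in
theorem respectsIso_isClosedImmersion :
    MorphismProperty.RespectsIso (@IsClosedImmersion : MorphismProperty Scheme.{u}) := inferInstance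

theorem cons_isSeparated (f : X ⟶ Y) (g : Y ⟶ S) [LocallyOfFinitePresentation f] [QuasiCompact f]
    [QuasiSeparated f] [LocallyOfFinitePresentation g] [QuasiCompact g] :
    IsLocallyConstructible (goodSet @IsSeparated f g) := by
  have := respectsIso_isClosedImmersion.{u}
  rw [IsSeparated.isSeparated_eq_diagonal_isClosedImmersion]
  erw [goodSet_diagonal @IsClosedImmersion f g]
  set d := pullback.diagonal f
  set h := (pullback.snd f f ≫ f) ≫ g
  have : LocallyOfFinitePresentation d := LimDesc62.lfp_diagonal f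
  have : goodSet @IsClosedImmersion d h = {s | IsClosed (h.fiberι s ⁻¹' Set.range d)} := by
    ext s
    show IsClosedImmersion (fib d h s) ↔ IsClosed _
    rw [← range_fib]
    exact ⟨fun hs => (fib d h s).isClosedEmbedding.isClosed_range, fun hs =>
      have : IsImmersion (fib d h s) := MorphismProperty.of_isPullback (IsPullback.of_hasPullback d _) inferInstance
      IsClosedImmersion.of_isPreimmersion _ hs⟩
  rw [this]
  exact cons_closed h (isLocallyConstructible_range d)

theorem subtype_closed_iff (f : X ⟶ S) (s : S) (Z : Set X) :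
    IsClosed (Subtype.val ⁻¹' Z : Set ↥(f.base ⁻¹' {s})) ↔ IsClosed (f.fiberι s ⁻¹' Z) :=
  (f.fiberHomeo s).isClosed_preimage.symm

theorem subtype_open_iff (f : X ⟶ S) (s : S) (Z : Set X) :
    IsOpen (Subtype.val ⁻¹' Z : Set ↥(f.base ⁻¹' {s})) ↔ IsOpen (f.fiberι s ⁻¹' Z) :=
  (f.fiberHomeo s).isOpen_preimage.symm

theorem subtype_locallyClosed_iff (f : X ⟶ S) (s : S) (Z : Set X) :
    IsLocallyClosed (Subtype.val ⁻¹' Z : Set ↥(f.base ⁻¹' {s})) ↔ IsLocallyClosed (f.fiberι s ⁻¹' Z) := by
  rw [isLocallyClosed_iff_isOpen_coborder, isLocallyClosed_iff_isOpen_coborder,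
    ← (f.fiberHomeo s).isOpen_preimage,
    ← coborder_preimage (f.fiberHomeo s).isOpenMap (f.fiberHomeo s).continuous]
  rfl

theorem dense_iff_fiberι (f : X ⟶ S) (s : S) (Z Z' : Set X) :
    Z' ∩ f.base ⁻¹' {s} ⊆ closure (Z ∩ f.base ⁻¹' {s}) ↔
      f.fiberι s ⁻¹' Z' ⊆ closure (f.fiberι s ⁻¹' Z) := by
  rw [closure_fiberι_preimage]
  constructor
  · intro h z hz
    have hz' := mem_range_self (f := f.fiberι s) z
    rw [f.range_fiberι] at hz'
    exact h ⟨hz, hz'⟩
  · rintro h x ⟨hx, hxs⟩
    obtain ⟨z, rfl⟩ : x ∈ Set.range (f.fiberι s) := by rw [f.range_fiberι]; exact hxs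
    exact h hx

set_option backward.isDefEq.respectTransparency.types false in
theorem respectsIso_isDominant :
    MorphismProperty.RespectsIso (@IsDominant : MorphismProperty Scheme.{u}) := inferInstance

set_option backward.isDefEq.respectTransparency.types false in
theorem respectsIso_isSeparated :
    MorphismProperty.RespectsIso (@IsSeparated : MorphismProperty Scheme.{u}) := inferInstance

end Groth.Agent.Cons62
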