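import Groth.Agent.Cons62.Local
import Groth.Agent.Cons62.Sep
import Mathlib.AlgebraicGeometry.Morphisms.FormallyUnramified
import Mathlib.RingTheory.Kaehler.TensorProduct
import Mathlib.RingTheory.Extension.Cotangent.Basic
import Mathlib.RingTheory.LocalRing.Module

/-! The unramified locus and constructibility of unramified fibre morphisms; monomorphisms. -/

set_option autoImplicit false
universe u

open CategoryTheory CategoryTheory.Limits AlgebraicGeometry TopologicalSpace Topology TensorProduct

namespace Groth.Agent.Cons62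

theorem isConstructible_support {C M : Type u} [CommRing C] [AddCommGroup M] [Module C M]
    [Module.FinitePresentation C M] : IsConstructible (Module.support C M) := by
  classical
  obtain ⟨n, π, hπ⟩ := Module.Finite.exists_fin' C M
  obtain ⟨w, hw⟩ := (Module.FinitePresentation.fg_ker π hπ : (LinearMap.ker π).FG)
  let lin : (Fin n → C) →ₗ[C] MvPolynomial (Fin n) C :=
    Fintype.linearCombination C (fun i => (MvPolynomial.X i : MvPolynomial (Fin n) C))
  have hlin : ∀ v, lin v = ∑ i, v i • MvPolynomial.X i := Fintype.linearCombination_apply C _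
  let T : Set (PrimeSpectrum (MvPolynomial (Fin n) C)) :=
    PrimeSpectrum.zeroLocus (lin '' (w : Set (Fin n → C))) \
      PrimeSpectrum.zeroLocus (Set.range (fun i => (MvPolynomial.X i : MvPolynomial (Fin n) C)))
  have hT : IsConstructible T :=
    IsConstructible.sdiff
      (isConstructible_compl.mp ((PrimeSpectrum.isRetrocompact_zeroLocus_compl (w.finite_toSet.image lin)).isConstructible
        (PrimeSpectrum.isClosed_zeroLocus _).isOpen_compl))
      (isConstructible_compl.mp ((PrimeSpectrum.isRetrocompact_zeroLocus_compl (Set.finite_range _)).isConstructible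
        (PrimeSpectrum.isClosed_zeroLocus _).isOpen_compl))
  suffices Module.support C M = PrimeSpectrum.comap (algebraMap C (MvPolynomial (Fin n) C)) '' T by
    rw [this]
    exact PrimeSpectrum.isConstructible_comap_image
      (RingHom.finitePresentation_algebraMap.mpr inferInstance) hT
  have hker : ∀ Q : Ideal (MvPolynomial (Fin n) C), (lin '' (w : Set (Fin n → C))) ⊆ Q →
      ∀ v ∈ LinearMap.ker π, lin v ∈ Q := by
    intro Q h v hv
    rw [← hw] at hv
    exact (Submodule.span_le (p := (Q.restrictScalars C).comap lin)).mpr (fun x hx => h ⟨x, hx, rfl⟩) hv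
  ext p
  constructor
  · intro hp
    rw [Module.mem_support_iff_nontrivial_residueField_tensorProduct] at hp
    obtain ⟨x, hx⟩ := exists_ne (0 : p.asIdeal.ResidueField ⊗[C] M)
    obtain ⟨l, hl⟩ : ∃ l : Module.Dual p.asIdeal.ResidueField (p.asIdeal.ResidueField ⊗[C] M), l x ≠ 0 := by
      by_contra h
      exact hx ((Module.forall_dual_apply_eq_zero_iff _ x).mp (not_exists_not.mp h))
    let a : Fin n → p.asIdeal.ResidueField := fun i => l (1 ⊗ₜ π (Pi.single i 1))
    let χ : MvPolynomial (Fin n) C →ₐ[C] p.asIdeal.ResidueField := MvPolynomial.aeval a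
    have hχ : ∀ v, χ (lin v) = l (1 ⊗ₜ π v) := fun v => by
      rw [hlin, map_sum]
      conv_rhs => rw [show v = ∑ i, v i • Pi.single i (1 : C) by
        ext j; simp [Finset.sum_apply, Pi.single_apply]]
      simp only [map_sum, tmul_sum, map_smul, tmul_smul, LinearMap.map_smul_of_tower]
      exact Finset.sum_congr rfl fun i _ => by simp [χ, a]
    refine ⟨⟨RingHom.ker χ.toRingHom, RingHom.ker_isPrime _⟩, ⟨?_, ?_⟩, ?_⟩
    · rintro _ ⟨v, hv, rfl⟩
      show χ (lin v) = 0
      rw [hχ, show π v = 0 from hw.le (Submodule.subset_span hv), tmul_zero, map_zero]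
    · intro h
      apply hl
      have ha : ∀ i, a i = 0 := fun i => by
        have := h (Set.mem_range_self i)
        simpa [χ] using (show χ (MvPolynomial.X i) = 0 from this)
      clear hx hl
      induction x using TensorProduct.induction_on with
      | zero => simp
      | add x y hx hy => rw [map_add, hx, hy, add_zero]
      | tmul c m =>
        obtain ⟨v, rfl⟩ := hπ m
        have : c ⊗ₜ[C] π v = c • ((1 : p.asIdeal.ResidueField) ⊗ₜ[C] π v) := by rw [smul_tmul', smul_eq_mul, mul_one]
        rw [this, map_smul, ← hχ, hlin, map_sum]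
        simp [χ, ha]
    · ext c
      show χ (algebraMap C _ c) = 0 ↔ _
      rw [χ.commutes, Ideal.algebraMap_residueField_eq_zero]
  · rintro ⟨Q, ⟨hQ, hQX⟩, rfl⟩
    by_contra hp
    rw [Module.notMem_support_iff'] at hp
    refine hQX ?_
    rintro _ ⟨i, rfl⟩
    obtain ⟨r, hr, hr0⟩ := hp (π (Pi.single i 1))
    have h1 : lin (r • Pi.single i 1) ∈ Q.asIdeal :=
      hker _ hQ _ (show π (r • Pi.single i 1) = 0 by rw [map_smul, hr0])
    rw [map_smul, hlin, Finset.sum_eq_single i (fun j _ hj => by rw [Pi.single_eq_of_ne hj, zero_smul])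
      (fun h => absurd (Finset.mem_univ i) h), Pi.single_eq_same, one_smul, Algebra.smul_def] at h1
    exact (Q.isPrime.mem_or_mem h1).resolve_left hr

theorem subsingleton_tensor_iff {C D M : Type u} [CommRing C] [CommRing D] [Algebra C D] [AddCommGroup M]
    [Module C M] [Module.Finite C M] :
    Subsingleton (D ⊗[C] M) ↔ ∀ Q : PrimeSpectrum D, PrimeSpectrum.comap (algebraMap C D) Q ∉ Module.support C M := by
  constructor
  · intro h Q hQ
    set q := PrimeSpectrum.comap (algebraMap C D) Q
    rw [Module.mem_support_iff_nontrivial_residueField_tensorProduct] at hQ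
    let j : q.asIdeal.ResidueField →ₐ[C] Q.asIdeal.ResidueField :=
      Ideal.ResidueField.mapₐ q.asIdeal Q.asIdeal (Algebra.ofId C D) rfl
    obtain ⟨x, hx⟩ := exists_ne (0 : q.asIdeal.ResidueField ⊗[C] M)
    obtain ⟨l, hl⟩ : ∃ l : Module.Dual q.asIdeal.ResidueField (q.asIdeal.ResidueField ⊗[C] M), l x ≠ 0 := by
      by_contra h
      exact hx ((Module.forall_dual_apply_eq_zero_iff _ x).mp (not_exists_not.mp h))
    let lm : M →ₗ[C] Q.asIdeal.ResidueField :=
      j.toLinearMap ∘ₗ (l.restrictScalars C) ∘ₗ TensorProduct.mk C q.asIdeal.ResidueField M 1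
    have hlm : lm = 0 := by
      ext m
      have h0 : LinearMap.liftBaseChange D lm ((1 : D) ⊗ₜ m) = 0 := by
        rw [Subsingleton.elim ((1 : D) ⊗ₜ[C] m) 0, map_zero]
      simpa using h0
    apply hl
    clear hx hl
    induction x using TensorProduct.induction_on with
    | zero => simp
    | add x y hx hy => rw [map_add, hx, hy, add_zero]
    | tmul c m =>
      have h1 : l ((1 : q.asIdeal.ResidueField) ⊗ₜ[C] m) = 0 :=
        j.toRingHom.injective (by simpa [lm] using LinearMap.congr_fun hlm m)
      rw [show c ⊗ₜ[C] m = c • ((1 : q.asIdeal.ResidueField) ⊗ₜ[C] m) by rw [smul_tmul', smul_eq_mul, mul_one],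
        map_smul, h1, smul_zero]
  · intro h
    rw [← Module.support_eq_empty_iff (R := D), Set.eq_empty_iff_forall_notMem]
    intro Q
    rw [Module.notMem_support_iff']
    intro x
    induction x using TensorProduct.induction_on with
    | zero => exact ⟨1, Q.isPrime.ne_top ∘ (Ideal.eq_top_iff_one _).mpr, by simp⟩
    | add x y hx hy =>
      obtain ⟨r, hr, hr0⟩ := hx
      obtain ⟨r', hr', hr0'⟩ := hy
      exact ⟨r * r', fun hm => (Q.isPrime.mem_or_mem hm).elim hr hr',
        by rw [smul_add, mul_comm r r', mul_smul, hr0, smul_zero, mul_comm r' r, mul_smul, hr0', smul_zero, add_zero]⟩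
    | tmul d m =>
      obtain ⟨r, hr, hr0⟩ := Module.notMem_support_iff'.mp (h Q) m
      refine ⟨algebraMap C D r, hr, ?_⟩
      rw [algebraMap_smul, ← tmul_smul, hr0, tmul_zero]

theorem range_of_isPullback {P X Y Z : Scheme.{u}} {p : P ⟶ X} {q : P ⟶ Y} {f : X ⟶ Z} {g : Y ⟶ Z}
    (h : IsPullback p q f g) : Set.range p = f ⁻¹' Set.range g := by
  rw [← h.isoPullback_hom_fst, Scheme.Hom.comp_base, TopCat.coe_comp, Set.range_comp,
    Set.range_eq_univ.mpr h.isoPullback.hom.surjective, Set.image_univ, Scheme.Pullback.range_fst]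

instance isPrime_spec_point {A : CommRingCat.{u}} (s : Spec A) : s.asIdeal.IsPrime := s.isPrime

section Spec

attribute [local instance] Algebra.TensorProduct.rightAlgebra

variable {A B C : CommRingCat.{u}} [Algebra A B] [Algebra B C]

theorem spec_fibre (P : MorphismProperty Scheme.{u}) [P.RespectsIso] (s : Spec A) :
    (s ∈ goodSet P (Spec.map (CommRingCat.ofHom (algebraMap B C))) (Spec.map (CommRingCat.ofHom (algebraMap A B))) ↔
      P (Spec.map (CommRingCat.ofHom (algebraMap (s.asIdeal.ResidueField ⊗[A] B)
        ((s.asIdeal.ResidueField ⊗[A] B) ⊗[B] C))))) := by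
  let κ := s.asIdeal.ResidueField
  have h1 := (isPullback_SpecMap_of_isPushout _ _ _ _ (CommRingCat.isPushout_tensorProduct A κ B)).flip
  letI : Algebra B (κ ⊗[A] B) := Algebra.TensorProduct.rightAlgebra
  have h2 := (isPullback_SpecMap_of_isPushout _ _ _ _ (CommRingCat.isPushout_tensorProduct B (κ ⊗[A] B) C)).flip
  have : IsIso (Spec.map (Scheme.Spec.residueFieldIso A s).inv) :=
    Functor.map_isIso Scheme.Spec (Scheme.Spec.residueFieldIso A s).inv.op
  have h0 : ∀ t, t = (Spec A).fromSpecResidueField s →
      (s ∈ goodSet P (Spec.map (CommRingCat.ofHom (algebraMap B C))) (Spec.map (CommRingCat.ofHom (algebraMap A B))) ↔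
        P (pullback.snd (Spec.map (CommRingCat.ofHom (algebraMap B C))) (pullback.fst (Spec.map (CommRingCat.ofHom (algebraMap A B))) t))) := by
    rintro t rfl; rfl
  rw [h0 _ (Scheme.Spec.map_residueFieldIso_inv_eq_fromSpecResidueField A s),
    prop_snd_fst_comp_iso_iff (P := P), ← prop_snd_congr (P := P) _ _ h1, ← LimDesc62.prop_iff_of_isPullback (P := P) h2]

theorem spec_fibre_range (s : Spec A) :
    letI : Algebra B (s.asIdeal.ResidueField ⊗[A] B) := Algebra.TensorProduct.rightAlgebra
    Set.range (PrimeSpectrum.comap (algebraMap C ((s.asIdeal.ResidueField ⊗[A] B) ⊗[B] C))) =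
      PrimeSpectrum.comap ((algebraMap B C).comp (algebraMap A B)) ⁻¹' {s} := by
  let κ := s.asIdeal.ResidueField
  letI : Algebra B (κ ⊗[A] B) := Algebra.TensorProduct.rightAlgebra
  have h1 := (isPullback_SpecMap_of_isPushout _ _ _ _ (CommRingCat.isPushout_tensorProduct A κ B)).flip
  have h2 := (isPullback_SpecMap_of_isPushout _ _ _ _ (CommRingCat.isPushout_tensorProduct B (κ ⊗[A] B) C)).flip
  have h3 := range_of_isPullback (h2.paste_vert h1)
  have h4 : Set.range (Spec.map (CommRingCat.ofHom (algebraMap A κ))) = ({s} : Set (Spec A)) :=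
    PrimeSpectrum.residueField_comap _
  rw [h4] at h3
  exact h3

end Spec

set_option backward.isDefEq.respectTransparency.types false in
theorem respectsIso_formallyUnramified :
    MorphismProperty.RespectsIso (@FormallyUnramified : MorphismProperty Scheme.{u}) := inferInstance

set_option backward.isDefEq.respectTransparency.types false in
theorem isZariskiLocalAtSource_formallyUnramified :
    IsZariskiLocalAtSource (@FormallyUnramified : MorphismProperty Scheme.{u}) := inferInstance

theorem cons_formallyUnramified_spec {A B C : CommRingCat.{u}} (φ : A ⟶ B) (ψ : B ⟶ C)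
    (hψ : ψ.hom.FinitePresentation) (hφ : φ.hom.FinitePresentation) :
    IsLocallyConstructible (goodSet @FormallyUnramified (Spec.map ψ) (Spec.map φ)) := by
  have := respectsIso_formallyUnramified.{u}
  algebraize [φ.hom, ψ.hom]
  have hset : goodSet @FormallyUnramified (Spec.map ψ) (Spec.map φ) =
      (PrimeSpectrum.comap (ψ.hom.comp φ.hom) '' Module.support C Ω[C⁄B])ᶜ := by
    ext s
    let κ := s.asIdeal.ResidueField
    letI : Algebra B (κ ⊗[A] B) := Algebra.TensorProduct.rightAlgebra
    let D := (κ ⊗[A] B) ⊗[B] C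
    letI : Algebra C D := Algebra.TensorProduct.rightAlgebra
    letI : Algebra B (κ ⊗[A] B) := Algebra.TensorProduct.rightAlgebra
    refine (spec_fibre (A := A) (B := B) (C := C) @FormallyUnramified s).trans ?_
    rw [HasRingHomProperty.Spec_iff (P := @FormallyUnramified), CommRingCat.hom_ofHom]
    erw [RingHom.formallyUnramified_algebraMap]
    rw [
      Algebra.formallyUnramified_iff, ← (KaehlerDifferential.tensorKaehlerEquiv B (κ ⊗[A] B) C D).subsingleton_congr,
      subsingleton_tensor_iff]
    have hr := spec_fibre_range (A := A) (B := B) (C := C) s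
    constructor
    · rintro h ⟨q, hq, hqs⟩
      obtain ⟨Q, rfl⟩ := hr.ge (show q ∈ _ from hqs)
      exact h Q hq
    · intro h Q hQ
      exact h ⟨_, hQ, hr.le ⟨Q, rfl⟩⟩
  rw [hset]
  have : Module.FinitePresentation C Ω[C⁄B] := inferInstance
  exact (isConstructible_compl.mpr
    (PrimeSpectrum.isConstructible_comap_image (hψ.comp hφ) isConstructible_support)).isLocallyConstructible

theorem cons_formallyUnramified {X Y S : Scheme.{u}} (f : X ⟶ Y) (g : Y ⟶ S) (h : FP f g) :
    IsLocallyConstructible (goodSet @FormallyUnramified f g) := by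
  have := respectsIso_formallyUnramified.{u}
  have := isZariskiLocalAtSource_formallyUnramified.{u}
  exact cons_of_local
    (fun x m hm => ⟨fun h' => @FormallyUnramified.of_comp _ _ _ x m h',
      fun h' => by
        have := h'; have := hm
        have : FormallyUnramified m := inferInstance
        exact MorphismProperty.comp_mem _ x m h' this⟩) (fun φ ψ hφ hψ => cons_formallyUnramified_spec φ ψ hψ hφ) f g h

theorem goodSet_mono {X Y S : Scheme.{u}} (f : X ⟶ Y) (g : Y ⟶ S) [LocallyOfFiniteType f] :
    goodSet (MorphismProperty.monomorphisms Scheme.{u}) f g =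
      goodSet @UniversallyInjective f g ∩ goodSet @FormallyUnramified f g := by
  ext s
  show Mono (fib f g s) ↔ UniversallyInjective (fib f g s) ∧ FormallyUnramified (fib f g s)
  have : LocallyOfFiniteType (fib f g s) :=
    MorphismProperty.of_isPullback (IsPullback.of_hasPullback f _) ‹LocallyOfFiniteType f›
  constructor
  · intro _
    exact ⟨inferInstance, inferInstance⟩
  · rintro ⟨hu, _⟩
    rw [universallyInjective_eq_diagonal] at hu
    have : Surjective (pullback.diagonal (fib f g s)) := hu
    have : IsIso (pullback.diagonal (fib f g s)) :=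
      (isIso_iff_isOpenImmersion_and_surjective _).mpr ⟨inferInstance, inferInstance⟩
    exact (pullback.isIso_diagonal_iff _).mp inferInstance

theorem cons_mono {X Y S : Scheme.{u}} (f : X ⟶ Y) (g : Y ⟶ S) (h : FP f g) :
    IsLocallyConstructible (goodSet (MorphismProperty.monomorphisms Scheme.{u}) f g) := by
  have := h.lfp_f; have := h.qc_f; have := h.qs_f; have := h.lfp_g; have := h.qc_g; have := h.qs_g
  rw [goodSet_mono]
  exact (cons_universallyInjective f g).inter (cons_formallyUnramified f g h)

end Groth.Agent.Cons62
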