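import Groth.Agent.Cons62.Local
import Groth.Agent.Cons62.FibreTop
import Groth.Agent.Cons62.Unramified
import Groth.Agent.Cons62.Model
import Mathlib.AlgebraicGeometry.Morphisms.LocalFlatDescent

/-! Reduction of constructibility of descending fibre properties to generic constructibility over
Noetherian domains. -/

set_option autoImplicit false
universe u

open CategoryTheory CategoryTheory.Limits AlgebraicGeometry TopologicalSpace Topology TensorProduct

namespace Groth.Agent.Cons62

/-- fpqc morphisms. -/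
abbrev fpqcProp : MorphismProperty Scheme.{u} := @Surjective ⊓ @Flat ⊓ @QuasiCompact

variable {P : MorphismProperty Scheme.{u}}

theorem fpqc_specMap_residueFieldMap {S S' : Scheme.{u}} (u : S' ⟶ S) (s' : S') :
    fpqcProp (Spec.map (u.residueFieldMap s')) := by
  refine ⟨⟨⟨fun x => ⟨IsLocalRing.closedPoint _,
    Subsingleton.elim (α := PrimeSpectrum (S.residueField (u s'))) _ x⟩⟩, inferInstance⟩, inferInstance⟩

theorem prop_snd_fst_comp_iff [P.RespectsIso] [P.IsStableUnderBaseChange] [P.DescendsAlong fpqcProp.{u}]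
    {X Y S : Scheme.{u}} (f : X ⟶ Y) (g : Y ⟶ S) {Z Z' : Scheme.{u}} (e : Z' ⟶ Z) (he : fpqcProp e)
    (t : Z ⟶ S) : P (pullback.snd f (pullback.fst g (e ≫ t))) ↔ P (pullback.snd f (pullback.fst g t)) := by
  let c := pullback.fst (pullback.snd g t) e
  have hc : fpqcProp c := by
    obtain ⟨⟨h1, h2⟩, h3⟩ := he
    exact ⟨⟨inferInstance, inferInstance⟩, inferInstance⟩
  have h := (IsPullback.of_hasPullback (pullback.snd g t) e).paste_horiz (IsPullback.of_hasPullback g t)
  rw [← prop_snd_congr (P := P) f g h]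
  have h2 := (IsPullback.of_hasPullback (pullback.snd f (pullback.fst g t)) c).paste_horiz
    (IsPullback.of_hasPullback f (pullback.fst g t))
  rw [← LimDesc62.prop_iff_of_isPullback (P := P) h2]
  exact MorphismProperty.pullback_snd_iff (P := P) (Q := fpqcProp) hc

/-- The good set commutes with base change. -/
theorem goodSet_of_isPullback [P.RespectsIso] [P.IsStableUnderBaseChange] [P.DescendsAlong fpqcProp.{u}]
    {X Y S X' Y' S' : Scheme.{u}} {f : X ⟶ Y} {g : Y ⟶ S} {f' : X' ⟶ Y'} {g' : Y' ⟶ S'}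
    {a : X' ⟶ X} {b : Y' ⟶ Y} {u : S' ⟶ S} (hb : IsPullback b g' g u) (ha : IsPullback a f' f b) :
    goodSet P f' g' = u ⁻¹' goodSet P f g := by
  ext s'
  let t' := S'.fromSpecResidueField s'
  show P (pullback.snd f' (pullback.fst g' t')) ↔ P (pullback.snd f (pullback.fst g (S.fromSpecResidueField (u s'))))
  have h1 := (IsPullback.of_hasPullback f' (pullback.fst g' t')).paste_horiz ha
  have h2 := (IsPullback.of_hasPullback g' t').paste_horiz hb
  rw [LimDesc62.prop_iff_of_isPullback (P := P) h1, prop_snd_congr (P := P) f g h2,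
    ← Scheme.Hom.SpecMap_residueFieldMap_fromSpecResidueField]
  exact prop_snd_fst_comp_iff f g _ (fpqc_specMap_residueFieldMap u s') _

theorem isPullback_spec_of_equiv {R₀ R S₀ S : Type u} [CommRing R₀] [CommRing R] [CommRing S₀] [CommRing S]
    [Algebra R₀ R] [Algebra R₀ S₀] [Algebra R S] (e : R ⊗[R₀] S₀ ≃ₐ[R] S) :
    IsPullback (Spec.map (CommRingCat.ofHom (e.toRingHom.comp Algebra.TensorProduct.includeRight.toRingHom)))
      (Spec.map (CommRingCat.ofHom (algebraMap R S))) (Spec.map (CommRingCat.ofHom (algebraMap R₀ S₀)))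
      (Spec.map (CommRingCat.ofHom (algebraMap R₀ R))) := by
  have h := isPullback_SpecMap_of_isPushout _ _ _ _ (CommRingCat.isPushout_tensorProduct R₀ R S₀)
  refine h.flip.of_iso (Scheme.Spec.mapIso (e.toRingEquiv.toCommRingCatIso).op).symm (Iso.refl _) (Iso.refl _)
    (Iso.refl _) ?_ ?_ (by simp) (by simp)
  · simp only [Iso.refl_hom, Category.comp_id, Iso.symm_hom]
    rw [Iso.eq_inv_comp, Functor.mapIso_hom, Iso.op_hom]
    show Spec.map _ ≫ Spec.map _ = _
    rw [← Spec.map_comp]
    rfl
  · simp only [Iso.refl_hom, Category.comp_id, Iso.symm_hom]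
    rw [Iso.eq_inv_comp, Functor.mapIso_hom, Iso.op_hom]
    show Spec.map _ ≫ Spec.map _ = _
    rw [← Spec.map_comp]
    congr 1
    ext a
    exact (e.commutes a)

variable (P) in
/-- Over a Noetherian domain the good set is constructible on some nonempty basic open. -/
def GenericGood : Prop :=
  ∀ (A B C : CommRingCat.{u}) [Algebra A B] [Algebra B C] [IsDomain A] [IsNoetherianRing A]
    [Algebra.FiniteType A B] [Algebra.FiniteType B C],
    ∃ h : A, h ≠ 0 ∧ IsConstructible ((PrimeSpectrum.basicOpen h : Set (PrimeSpectrum A)) ∩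
      goodSet P (Spec.map (CommRingCat.ofHom (algebraMap B C))) (Spec.map (CommRingCat.ofHom (algebraMap A B))))

attribute [local instance] Algebra.TensorProduct.rightAlgebra

theorem cons_spec_noetherian [P.RespectsIso] [P.IsStableUnderBaseChange] [P.DescendsAlong fpqcProp.{u}]
    (hP : GenericGood P) (A B C : Type u) [CommRing A] [CommRing B] [CommRing C] [Algebra A B] [Algebra B C]
    [IsNoetherianRing A] [Algebra.FiniteType A B] [Algebra.FiniteType B C] :
    IsConstructible (goodSet P (Spec.map (CommRingCat.ofHom (algebraMap B C)))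
      (Spec.map (CommRingCat.ofHom (algebraMap A B)))) := by
  refine isConstructible_of_forall_prime fun p => ?_
  let A' := A ⧸ p.asIdeal
  let B' := A' ⊗[A] B
  let C' := B' ⊗[B] C
  have h1 := (isPullback_SpecMap_of_isPushout _ _ _ _ (CommRingCat.isPushout_tensorProduct A A' B)).flip
  have h2 := (isPullback_SpecMap_of_isPushout _ _ _ _ (CommRingCat.isPushout_tensorProduct B B' C)).flip
  have : IsNoetherianRing (CommRingCat.of A') := inferInstanceAs (IsNoetherianRing A')
  have : IsDomain (CommRingCat.of A') := inferInstanceAs (IsDomain A')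
  have : Algebra.FiniteType A' B' := inferInstance
  have : Algebra.FiniteType B' C' := inferInstance
  obtain ⟨h, hh, hc⟩ := hP (CommRingCat.of A') (CommRingCat.of B') (CommRingCat.of C')
  obtain ⟨h, rfl⟩ := Ideal.Quotient.mk_surjective h
  refine ⟨h, fun hp => hh (Ideal.Quotient.eq_zero_iff_mem.mpr hp), ?_⟩
  rw [goodSet_of_isPullback (P := P) h1 h2] at hc
  have he := PrimeSpectrum.isClosedEmbedding_comap_of_surjective A' (Ideal.Quotient.mk p.asIdeal)
    Ideal.Quotient.mk_surjective
  have := hc.image_of_isClosedEmbedding he (fun U _ _ => TopologicalSpace.NoetherianSpace.isCompact _)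
  convert this using 1
  ext x
  constructor
  · rintro ⟨⟨hx, hxh⟩, hxE⟩
    obtain ⟨y, rfl⟩ : x ∈ Set.range (PrimeSpectrum.comap (Ideal.Quotient.mk p.asIdeal)) := by
      rw [range_comap_of_surjective _ _ Ideal.Quotient.mk_surjective, Ideal.mk_ker]
      exact hx
    exact ⟨y, ⟨hxh, hxE⟩, rfl⟩
  · rintro ⟨y, ⟨hy1, hy2⟩, rfl⟩
    refine ⟨⟨fun z hz => ?_, hy1⟩, hy2⟩
    show Ideal.Quotient.mk p.asIdeal z ∈ y.asIdeal
    rw [Ideal.Quotient.eq_zero_iff_mem.mpr hz]
    exact zero_mem _

theorem cons_spec [P.RespectsIso] [P.IsStableUnderBaseChange] [P.DescendsAlong fpqcProp.{u}]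
    (hP : GenericGood P) {A B C : CommRingCat.{u}} (φ : A ⟶ B) (ψ : B ⟶ C)
    (hφ : φ.hom.FinitePresentation) (hψ : ψ.hom.FinitePresentation) :
    IsLocallyConstructible (goodSet P (Spec.map ψ) (Spec.map φ)) := by
  algebraize [φ.hom, ψ.hom]
  have : Algebra.FinitePresentation A B := hφ
  have : Algebra.FinitePresentation B C := hψ
  let Q := Algebra.Presentation.ofFinitePresentation B C
  obtain ⟨A₀, B₀, _, _, e, hN, hB₀, hsub⟩ := exists_model (A := A) (B := B) Q.finite_coeffs
  let β : B₀ →+* B := e.toRingHom.comp Algebra.TensorProduct.includeRight.toRingHom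
  letI : Algebra B₀ B := β.toAlgebra
  letI : Algebra B₀ C := ((algebraMap B C).comp β).toAlgebra
  have : IsScalarTower B₀ B C := .of_algebraMap_eq' rfl
  have : Q.HasCoeffs B₀ := ⟨fun x hx => hsub hx⟩
  let C₀ := Q.ModelOfHasCoeffs B₀
  have h1 := isPullback_spec_of_equiv e
  have h2 := isPullback_spec_of_equiv (R₀ := B₀) (R := B) (S₀ := C₀) (Q.tensorModelOfHasCoeffsEquiv B₀)
  have h3 := cons_spec_noetherian hP A₀ B₀ C₀
  have hset := goodSet_of_isPullback (P := P) h1 h2
  have h4 := (Spec.map (CommRingCat.ofHom (algebraMap A₀ A))).isConstructible_preimage h3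
  rw [← hset] at h4
  exact h4.isLocallyConstructible

theorem cons_of_genericGood [P.RespectsIso] [P.IsStableUnderBaseChange] [P.DescendsAlong fpqcProp.{u}]
    [IsZariskiLocalAtSource P]
    (hright : ∀ {X Y Z : Scheme.{u}} (x : X ⟶ Y) (m : Y ⟶ Z), IsOpenImmersion m → (P (x ≫ m) ↔ P x))
    (hP : GenericGood P) {X Y S : Scheme.{u}} (f : X ⟶ Y) (g : Y ⟶ S) (h : FP f g) :
    IsLocallyConstructible (goodSet P f g) :=
  cons_of_local hright (fun φ ψ hφ hψ => cons_spec hP φ ψ hφ hψ) f g h

end Groth.Agent.Cons62
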