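import Groth.Agent.Cons62.Closed
import Groth.Agent.Cons62.FibreTop
import Groth.Agent.LimDesc62.QuasiFinite
import Groth.Agent.Lim60.Props

/-! The quasi-finite locus commutes with base change and is locally constructible;
constructibility of the loci of quasi-finite and of finite morphisms on fibres. -/

set_option autoImplicit false
universe u

open CategoryTheory CategoryTheory.Limits AlgebraicGeometry TopologicalSpace Topology

namespace Groth.Agent.Cons62

set_option backward.isDefEq.respectTransparency.types false in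
theorem isStableUnderBaseChange_locallyQuasiFinite :
    MorphismProperty.IsStableUnderBaseChange (@LocallyQuasiFinite : MorphismProperty Scheme.{u}) := inferInstance

theorem quasiFiniteLocus_of_isPullback {P X Y' Y : Scheme.{u}} {fst : P ⟶ X} {snd : P ⟶ Y'} {f : X ⟶ Y}
    {g : Y' ⟶ Y} (h : IsPullback fst snd f g) [LocallyOfFiniteType f] [LocallyOfFiniteType snd] :
    snd.quasiFiniteLocus = fst ⁻¹ᵁ f.quasiFiniteLocus := by
  have := isStableUnderBaseChange_locallyQuasiFinite.{u}
  refine le_antisymm (fun p hp => LimDesc62.quasiFiniteAt_of_isPullback h hp) fun p hp => ?_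
  let W := f.quasiFiniteLocus
  have h1 : IsPullback (fst ∣_ W) (fst ⁻¹ᵁ W).ι W.ι fst :=
    (isPullback_morphismRestrict fst W)
  have h2 := h1.paste_vert h
  have h3 : LocallyQuasiFinite ((fst ⁻¹ᵁ W).ι ≫ snd) :=
    MorphismProperty.of_isPullback h2 (inferInstance : LocallyQuasiFinite (W.ι ≫ f))
  have h4 := ((fst ⁻¹ᵁ W).ι ≫ snd).quasiFiniteLocus_eq_top
  rw [Scheme.Hom.quasiFiniteLocus_comp] at h4
  exact (h4.ge (Set.mem_univ (⟨p, hp⟩ : (fst ⁻¹ᵁ W : Scheme.{u}))) : _)

theorem isConstructible_quasiFiniteLocus_spec {B C : Type u} [CommRing B] [CommRing C] (φ : B →+* C)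
    (hφ : φ.FinitePresentation) [LocallyOfFiniteType (Spec.map (CommRingCat.ofHom φ))] :
    IsConstructible ((Spec.map (CommRingCat.ofHom φ)).quasiFiniteLocus : Set (Spec (CommRingCat.of C))) := by
  obtain ⟨B₀, C₀, _, _, φ₀, α, β, hN, hφ₀, hsq, -⟩ := exists_isPullback_model φ hφ []
  algebraize [φ₀]
  have hC₀ : IsNoetherianRing C₀ := Algebra.FiniteType.isNoetherianRing B₀ C₀
  have : LocallyOfFiniteType (Spec.map (CommRingCat.ofHom φ₀)) :=
    (HasRingHomProperty.Spec_iff (P := @LocallyOfFiniteType)).mpr (RingHom.FiniteType.of_finitePresentation hφ₀)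
  rw [quasiFiniteLocus_of_isPullback hsq]
  exact (Spec.map (CommRingCat.ofHom β)).isConstructible_preimage
    ((NoetherianSpace.isCompact _).isConstructible (Spec.map (CommRingCat.ofHom φ₀)).quasiFiniteLocus.2)

theorem isLocallyConstructible_quasiFiniteLocus {X Y : Scheme.{u}} (f : X ⟶ Y)
    [LocallyOfFinitePresentation f] : IsLocallyConstructible (f.quasiFiniteLocus : Set X) := by
  have hcov : ∀ x : X, ∃ (V : Y.affineOpens) (U : X.affineOpens), x ∈ U.1 ∧ U.1 ≤ f ⁻¹ᵁ V.1 := by
    intro x
    obtain ⟨_, ⟨V, hV, rfl⟩, hxV, -⟩ :=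
      Y.isBasis_affineOpens.exists_subset_of_mem_open (Set.mem_univ (f x)) isOpen_univ
    obtain ⟨_, ⟨U, hU, rfl⟩, hxU, hUV⟩ :=
      X.isBasis_affineOpens.exists_subset_of_mem_open (show x ∈ f ⁻¹ᵁ V from hxV) (f ⁻¹ᵁ V).2
    exact ⟨⟨V, hV⟩, ⟨U, hU⟩, hxU, hUV⟩
  choose V U hxU hUV using hcov
  refine .of_isOpenCover (U := fun x => (U x).1)
    (TopologicalSpace.IsOpenCover.mk (top_le_iff.mp fun x _ => Opens.mem_iSup.mpr ⟨x, hxU x⟩)) fun x => ?_
  have hU : IsAffineOpen (U x).1 := (U x).2
  have hV : IsAffineOpen (V x).1 := (V x).2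
  let ψ := f.appLE (V x).1 (U x).1 (hUV x)
  have hψ : Spec.map ψ ≫ hV.fromSpec = hU.fromSpec ≫ f := hV.SpecMap_appLE_fromSpec f hU (hUV x)
  have hlfp : LocallyOfFinitePresentation (Spec.map ψ) := by
    have h1 : LocallyOfFinitePresentation (hU.fromSpec ≫ f) := inferInstance
    rw [← hψ] at h1
    exact LimDesc62.lfp_of_comp _ hV.fromSpec
  have h2 := isConstructible_quasiFiniteLocus_spec ψ.hom
    ((HasRingHomProperty.Spec_iff (P := @LocallyOfFinitePresentation)).mp hlfp)
  have h3 : ((Spec.map ψ).quasiFiniteLocus : Set (Spec Γ(X, (U x).1))) =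
      hU.fromSpec ⁻¹' (f.quasiFiniteLocus : Set X) := by
    ext z
    show (Spec.map ψ).QuasiFiniteAt z ↔ f.QuasiFiniteAt (hU.fromSpec z)
    rw [← Scheme.Hom.quasiFiniteAt_comp_iff (g := hV.fromSpec), hψ,
      Scheme.Hom.quasiFiniteAt_comp_iff_of_isOpenImmersion]
  erw [h3] at h2
  have h4 := h2.isLocallyConstructible.preimage_of_isOpenEmbedding hU.isoSpec.hom.isOpenEmbedding
  rw [← Set.preimage_comp] at h4
  show IsLocallyConstructible ((U x).1.ι ⁻¹' _)
  convert h4 using 1
  refine congrArg (fun m : ((U x).1 : Scheme.{u}) → X => m ⁻¹' _) (funext fun z => ?_)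
  rw [Function.comp_apply, ← Scheme.Hom.comp_apply, IsAffineOpen.isoSpec_hom_fromSpec]

theorem cons_locallyQuasiFinite {X Y S : Scheme.{u}} (f : X ⟶ Y) (g : Y ⟶ S) (h : FP f g) :
    IsLocallyConstructible (goodSet @LocallyQuasiFinite f g) := by
  have := h.qc_f; have := h.qc_g; have := h.lfp_f; have := h.lfp_g
  have hset : goodSet @LocallyQuasiFinite f g = ((f ≫ g) '' (f.quasiFiniteLocus : Set X)ᶜ)ᶜ := by
    ext s
    let b := pullback.fst g (S.fromSpecResidueField s)
    have hq : LocallyOfFiniteType (pullback.snd f b) := inferInstance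
    show LocallyQuasiFinite (pullback.snd f b) ↔ _
    rw [← Scheme.Hom.quasiFiniteLocus_eq_top_iff, quasiFiniteLocus_of_isPullback (IsPullback.of_hasPullback f b)]
    constructor
    · rintro hh ⟨x, hx, rfl⟩
      obtain ⟨p, hp⟩ : x ∈ Set.range (pullback.fst f b) := by
        rw [Scheme.Pullback.range_fst]
        show f x ∈ Set.range b
        rw [range_fst_fib]
        exact (Scheme.Hom.comp_apply f g x).symm
      have hpW : pullback.fst f b p ∈ f.quasiFiniteLocus := hh.ge (Set.mem_univ p)
      rw [hp] at hpW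
      exact hx hpW
    · intro hh
      refine top_le_iff.mp fun p _ => ?_
      by_contra hp
      refine hh ⟨pullback.fst f b p, hp, ?_⟩
      have : f (pullback.fst f b p) ∈ g ⁻¹' {s} := by
        rw [← range_fst_fib, ← Scheme.Hom.comp_apply, pullback.condition, Scheme.Hom.comp_apply]
        exact Set.mem_range_self _
      rw [Scheme.Hom.comp_apply]
      exact this
  rw [hset]
  exact isLocallyConstructible_compl ((f ≫ g).isLocallyConstructible_image
    (isLocallyConstructible_compl (isLocallyConstructible_quasiFiniteLocus f)))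

set_option backward.isDefEq.respectTransparency.types false in
theorem respectsIso_isFinite :
    MorphismProperty.RespectsIso (@IsFinite : MorphismProperty Scheme.{u}) := inferInstance

set_option backward.isDefEq.respectTransparency.types false in
theorem isStableUnderBaseChange_isFinite :
    MorphismProperty.IsStableUnderBaseChange (@IsFinite : MorphismProperty Scheme.{u}) := inferInstance

theorem cons_isFinite {X Y S : Scheme.{u}} (f : X ⟶ Y) (g : Y ⟶ S) (h : FP f g) :
    IsLocallyConstructible (goodSet @IsFinite f g) := by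
  have := respectsIso_isFinite.{u}
  have := isStableUnderBaseChange_isFinite.{u}
  have := respectsIso_lft.{u}
  refine cons_of_affine (fun {A X Y} f g h => ?_) f g h
  have := h.qc_f; have := h.qs_f; have := h.qc_g; have := h.qs_g; have := h.lfp_f; have := h.lfp_g
  refine isLocallyConstructible_of_nhds
    (fun s hs => exists_nhd_of_desc Lim60.descProp_isFinite f g h inferInstance s hs) fun s hs => ?_
  have : LocallyOfFiniteType (fib f g s) := by unfold fib; infer_instance
  by_cases hq : s ∈ goodSet @LocallyQuasiFinite f g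
  · by_cases hsep : s ∈ goodSet @IsSeparated f g
    · obtain ⟨C, hC, hsC, hCsub⟩ := exists_nhd_not_universallyClosed f g h s fun huc => hs <| by
        have : UniversallyClosed (fib f g s) := huc
        have : IsSeparated (fib f g s) := hsep
        exact (IsFinite.iff_isProper_and_locallyQuasiFinite _).mpr ⟨⟨⟩, hq⟩
      refine ⟨C, hC, hsC, fun t ht hgood => hCsub ht ?_⟩
      have : IsFinite (fib f g t) := hgood
      show UniversallyClosed (fib f g t)
      infer_instance
    · refine ⟨_, isLocallyConstructible_compl (cons_isSeparated f g), hsep, fun t ht hgood => ht ?_⟩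
      have : IsFinite (fib f g t) := hgood
      show IsSeparated (fib f g t)
      infer_instance
  · refine ⟨_, isLocallyConstructible_compl (cons_locallyQuasiFinite f g h), hq, fun t ht hgood => ht ?_⟩
    have : IsFinite (fib f g t) := hgood
    show LocallyQuasiFinite (fib f g t)
    infer_instance

end Groth.Agent.Cons62
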