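import Groth.Agent.Cons62.Etale
import Groth.Agent.Cons62.Unramified
import Mathlib.AlgebraicGeometry.Morphisms.FlatMono

/-! Constructibility of the loci of etale morphisms, open immersions and isomorphisms on fibres. -/

set_option autoImplicit false
universe u

open CategoryTheory CategoryTheory.Limits AlgebraicGeometry TopologicalSpace Topology

namespace Groth.Agent.Cons62

set_option backward.isDefEq.respectTransparency.types false in
theorem descendsAlong_etale :
    MorphismProperty.DescendsAlong (@Etale : MorphismProperty Scheme.{u}) fpqcProp.{u} := inferInstance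

set_option backward.isDefEq.respectTransparency.types false in
theorem isStableUnderComposition_etale :
    MorphismProperty.IsStableUnderComposition (@Etale : MorphismProperty Scheme.{u}) := inferInstance

theorem cons_etale {X Y S : Scheme.{u}} (f : X ⟶ Y) (g : Y ⟶ S) (h : FP f g) :
    IsLocallyConstructible (goodSet @Etale f g) := by
  have := respectsIso_etale.{u}
  have := isStableUnderBaseChange_etale.{u}
  have := isZariskiLocalAtSource_etale.{u}
  have := descendsAlong_etale.{u}
  have := isStableUnderComposition_etale.{u}
  refine cons_of_genericGood (fun x m hm => ⟨fun h' => ?_, fun h' => ?_⟩) genericGood_etale f g h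
  · have := h'; have := hm
    exact Etale.of_comp x m
  · have := h'; have := hm
    have : Etale m := inferInstance
    exact MorphismProperty.comp_mem _ x m h' this

theorem goodSet_isOpenImmersion {X Y S : Scheme.{u}} (f : X ⟶ Y) (g : Y ⟶ S) [LocallyOfFinitePresentation f] :
    goodSet @IsOpenImmersion f g = goodSet @Etale f g ∩ goodSet (MorphismProperty.monomorphisms Scheme.{u}) f g := by
  ext s
  have : LocallyOfFinitePresentation (fib f g s) := by unfold fib; infer_instance
  constructor
  · intro hs
    have : IsOpenImmersion (fib f g s) := hs
    exact ⟨show Etale (fib f g s) from inferInstance, show Mono (fib f g s) from inferInstance⟩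
  · rintro ⟨he, hm⟩
    have : Etale (fib f g s) := he
    have : Mono (fib f g s) := hm
    exact IsOpenImmersion.of_flat_of_mono (fib f g s)

theorem cons_isOpenImmersion {X Y S : Scheme.{u}} (f : X ⟶ Y) (g : Y ⟶ S) (h : FP f g) :
    IsLocallyConstructible (goodSet @IsOpenImmersion f g) := by
  have := h.lfp_f
  rw [goodSet_isOpenImmersion]
  exact (cons_etale f g h).inter (cons_mono f g h)

theorem goodSet_isIso {X Y S : Scheme.{u}} (f : X ⟶ Y) (g : Y ⟶ S) :
    goodSet (MorphismProperty.isomorphisms Scheme.{u}) f g =
      goodSet @IsOpenImmersion f g ∩ goodSet @Surjective f g :=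
  Set.ext fun s => (isIso_iff_isOpenImmersion_and_surjective (fib f g s))

theorem cons_isIso {X Y S : Scheme.{u}} (f : X ⟶ Y) (g : Y ⟶ S) (h : FP f g) :
    IsLocallyConstructible (goodSet (MorphismProperty.isomorphisms Scheme.{u}) f g) := by
  have := h.lfp_f; have := h.qc_f; have := h.lfp_g; have := h.qc_g
  rw [goodSet_isIso]
  exact (cons_isOpenImmersion f g h).inter (cons_surjective f g)

end Groth.Agent.Cons62
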