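import Groth.Agent.Cons62.Unramified
import Groth.Agent.LimDesc62.ClosedImm
import Groth.Agent.EGA73.ProperCrit
import Mathlib.AlgebraicGeometry.Noetherian
import Mathlib.AlgebraicGeometry.ZariskisMainTheorem
import Mathlib.AlgebraicGeometry.AffineSpace

/-! Spreading out of failure of (universal) closedness of morphisms on fibres;
constructibility of the locus of closed immersions. -/

set_option autoImplicit false
universe u

open CategoryTheory CategoryTheory.Limits AlgebraicGeometry TopologicalSpace Topology

namespace Groth.Agent.Cons62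

/-- The underlying map is closed. -/
abbrev closedMap : MorphismProperty Scheme.{u} := topologically @IsClosedMap

theorem respectsIso_closedMap : (closedMap.{u}).RespectsIso :=
  topologically_respectsIso _ (fun e => e.isClosedMap) (fun _ _ hf hg => hg.comp hf)

/-- An open set of a Noetherian subspace extends to a quasi-compact open set. -/
theorem exists_open_extend {F : Type u} [TopologicalSpace F] [NoetherianSpace F] {X : Scheme.{u}}
    {ι : F → X} (hι : IsInducing ι) {O : Set F} (hO : IsOpen O) :
    ∃ U : X.Opens, IsCompact (U : Set X) ∧ ι ⁻¹' (U : Set X) = O := by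
  classical
  obtain ⟨W, hW, hWO⟩ := hι.isOpen_iff.mp hO
  have hK : IsCompact (ι '' O) := (NoetherianSpace.isCompact _).image hι.continuous
  have hex : ∀ x ∈ ι '' O, ∃ U : X.affineOpens, x ∈ U.1 ∧ (U.1 : Set X) ⊆ W := by
    rintro x ⟨z, hz, rfl⟩
    have hzW : ι z ∈ W := by
      have : z ∈ ι ⁻¹' W := by rw [hWO]; exact hz
      exact this
    obtain ⟨_, ⟨U, hU, rfl⟩, hxU, hUW⟩ := X.isBasis_affineOpens.exists_subset_of_mem_open hzW hW
    exact ⟨⟨U, hU⟩, hxU, hUW⟩
  choose U hxU hUW using hex
  obtain ⟨t, ht⟩ := hK.elim_finite_subcover (fun x : ↥(ι '' O) => ((U x.1 x.2).1 : Set X))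
    (fun x => (U x.1 x.2).1.2) (fun x hx => Set.mem_iUnion.mpr ⟨⟨x, hx⟩, hxU x hx⟩)
  refine ⟨⟨⋃ x ∈ t, ((U x.1 x.2).1 : Set X), isOpen_biUnion fun x _ => (U x.1 x.2).1.2⟩,
    t.finite_toSet.isCompact_biUnion fun x _ => IsAffineOpen.isCompact (U x.1 x.2).2, ?_⟩
  ext z
  constructor
  · intro hz
    obtain ⟨x, _, hx⟩ := Set.mem_iUnion₂.mp hz
    have : z ∈ ι ⁻¹' W := hUW x.1 x.2 hx
    rwa [hWO] at this
  · intro hz
    exact ht ⟨z, hz, rfl⟩

/-- A closed set of a Noetherian subspace extends to a closed constructible set. -/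
theorem exists_extend {F : Type u} [TopologicalSpace F] [NoetherianSpace F] {X : Scheme.{u}}
    [CompactSpace X] [QuasiSeparatedSpace X] {ι : F → X} (hι : IsInducing ι) {Z : Set F} (hZ : IsClosed Z) :
    ∃ Z' : Set X, IsClosed Z' ∧ IsConstructible Z' ∧ ι ⁻¹' Z' = Z := by
  obtain ⟨U, hUc, hU⟩ := exists_open_extend hι hZ.isOpen_compl
  exact ⟨(U : Set X)ᶜ, U.2.isClosed_compl, isConstructible_compl.mpr (hUc.isConstructible U.2),
    by rw [Set.preimage_compl, hU, compl_compl]⟩

theorem image_snd_preimage_fst {X Y T : Scheme.{u}} (f : X ⟶ Y) (b : T ⟶ Y) (Z : Set X) :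
    pullback.snd f b '' (pullback.fst f b ⁻¹' Z) = b ⁻¹' (f '' Z) := by
  ext y
  constructor
  · rintro ⟨z, hz, rfl⟩
    exact ⟨_, hz, by rw [← Scheme.Hom.comp_apply, pullback.condition, Scheme.Hom.comp_apply]⟩
  · rintro ⟨x, hx, hxy⟩
    obtain ⟨z, hz1, hz2⟩ := Scheme.Pullback.exists_preimage_pullback (f := f) (g := b) x y hxy
    exact ⟨z, by show pullback.fst f b z ∈ Z; rw [hz1]; exact hx, hz2⟩

theorem exists_nhd_not_closedMap {A : CommRingCat.{u}} {X Y : Scheme.{u}} (f : X ⟶ Y) (g : Y ⟶ Spec A)
    (h : FP f g) (s : Spec A) (hs : s ∉ goodSet closedMap f g) :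
    ∃ C : Set (Spec A), IsLocallyConstructible C ∧ s ∈ C ∧ C ⊆ (goodSet closedMap f g)ᶜ := by
  have := h.qc_f; have := h.qs_f; have := h.qc_g; have := h.qs_g; have := h.lfp_f; have := h.lfp_g
  have : CompactSpace Y := QuasiCompact.compactSpace_of_compactSpace g
  have : QuasiSeparatedSpace Y := quasiSeparatedSpace_of_quasiSeparated g
  have : CompactSpace X := QuasiCompact.compactSpace_of_compactSpace f
  have : QuasiSeparatedSpace X := quasiSeparatedSpace_of_quasiSeparated f
  let b := pullback.fst g ((Spec A).fromSpecResidueField s)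
  let q := pullback.snd f b ≫ pullback.snd g ((Spec A).fromSpecResidueField s)
  have : IsLocallyNoetherian (pullback f b) := LocallyOfFiniteType.isLocallyNoetherian q
  have : CompactSpace ↥(pullback f b) := QuasiCompact.compactSpace_of_compactSpace q
  have : AlgebraicGeometry.IsNoetherian (pullback f b) := ⟨⟩
  have : IsPreimmersion b := inferInstance
  have : IsPreimmersion (pullback.fst f b) := inferInstance
  obtain ⟨Z, hZ, hZn⟩ : ∃ Z : Set ↥(pullback f b), IsClosed Z ∧ ¬ IsClosed (fib f g s '' Z) := by
    by_contra hne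
    exact hs (fun Z hZ => by_contra fun hh => hne ⟨Z, hZ, hh⟩)
  obtain ⟨Z', hZc, hZcons, hZeq⟩ := exists_extend (pullback.fst f b).isEmbedding.isInducing hZ
  subst hZeq
  have himg : IsLocallyConstructible (f '' Z') :=
    f.isLocallyConstructible_image hZcons.isLocallyConstructible
  refine ⟨{t | IsClosed (g.fiberι t ⁻¹' (f '' Z'))}ᶜ,
    isLocallyConstructible_compl (cons_closed g himg), fun hcl => hZn ?_, fun t ht hgood => ht ?_⟩
  · show IsClosed (pullback.snd f b '' (pullback.fst f b ⁻¹' Z'))
    rw [image_snd_preimage_fst]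
    exact hcl
  · let bt := pullback.fst g ((Spec A).fromSpecResidueField t)
    show IsClosed (bt ⁻¹' (f '' Z'))
    rw [← image_snd_preimage_fst]
    exact hgood _ (hZc.preimage (pullback.fst f bt).continuous)

theorem prop_baseChange_target {P : MorphismProperty Scheme.{u}} [P.RespectsIso] {X Y Y' S : Scheme.{u}}
    (f : X ⟶ Y) (g : Y ⟶ S) (w : Y' ⟶ Y) (t : S) {T : Scheme.{u}} {a : T ⟶ Y'}
    {c : T ⟶ pullback g (S.fromSpecResidueField t)}
    (h : IsPullback a c w (pullback.fst g (S.fromSpecResidueField t))) :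
    t ∈ goodSet P (pullback.snd f w) (w ≫ g) ↔ P (pullback.snd (fib f g t) c) := by
  have h1 := h.paste_vert (IsPullback.of_hasPullback g (S.fromSpecResidueField t))
  show P (fib (pullback.snd f w) (w ≫ g) t) ↔ _
  unfold fib
  rw [← prop_snd_congr (P := P) (pullback.snd f w) (w ≫ g) h1]
  have h2 := (IsPullback.of_hasPullback (pullback.snd f w) a).paste_horiz (IsPullback.of_hasPullback f w)
  have h3 := (IsPullback.of_hasPullback (pullback.snd f (pullback.fst g (S.fromSpecResidueField t))) c).paste_horiz
    (IsPullback.of_hasPullback f (pullback.fst g (S.fromSpecResidueField t)))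
  rw [h.w] at h2
  exact (LimDesc62.prop_iff_of_isPullback (P := P) h2).trans
    (LimDesc62.prop_iff_of_isPullback (P := P) h3).symm

theorem exists_nhd_not_universallyClosed {A : CommRingCat.{u}} {X Y : Scheme.{u}} (f : X ⟶ Y) (g : Y ⟶ Spec A)
    (h : FP f g) (s : Spec A) (hs : s ∉ goodSet @UniversallyClosed f g) :
    ∃ C : Set (Spec A), IsLocallyConstructible C ∧ s ∈ C ∧ C ⊆ (goodSet @UniversallyClosed f g)ᶜ := by
  have := h.qc_f; have := h.qs_f; have := h.qc_g; have := h.qs_g; have := h.lfp_f; have := h.lfp_g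
  have := respectsIso_closedMap.{u}
  have : QuasiCompact (fib f g s) := by unfold fib; infer_instance
  obtain ⟨n, hn⟩ : ∃ n : ℕ, ¬ IsClosedMap (pullback.snd (fib f g s)
      (𝔸(ULift.{u} (Fin n); pullback g ((Spec A).fromSpecResidueField s)) ↘ _)).base := by
    by_contra hne
    exact hs (EGA73.universallyClosed_of_affineSpace (fib f g s) fun n => by_contra fun hh => hne ⟨n, hh⟩)
  let N := ULift.{u} (Fin n)
  let w : 𝔸(N; Y) ⟶ Y := 𝔸(N; Y) ↘ Y
  have hsq : ∀ t : Spec A, IsPullback (AffineSpace.map N (pullback.fst g ((Spec A).fromSpecResidueField t)))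
      (𝔸(N; pullback g ((Spec A).fromSpecResidueField t)) ↘ _) w (pullback.fst g ((Spec A).fromSpecResidueField t)) :=
    fun t => AffineSpace.isPullback_map _
  have h' : FP (pullback.snd f w) (w ≫ g) := by
    have : LocallyOfFinitePresentation w := inferInstance
    have : QuasiCompact w := inferInstance
    exact ⟨inferInstance, inferInstance, inferInstance, inferInstance, inferInstance, inferInstance⟩
  obtain ⟨C, hC, hsC, hCsub⟩ := exists_nhd_not_closedMap (pullback.snd f w) (w ≫ g) h' s
    (fun hgood => hn ((prop_baseChange_target (P := closedMap) f g w s (hsq s)).mp hgood))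
  refine ⟨C, hC, hsC, fun t ht hgood => hCsub ht ((prop_baseChange_target (P := closedMap) f g w t (hsq t)).mpr ?_)⟩
  have : UniversallyClosed (fib f g t) := hgood
  exact (pullback.snd (fib f g t) _).isClosedMap

set_option backward.isDefEq.respectTransparency.types false in
theorem isStableUnderBaseChange_isClosedImmersion :
    MorphismProperty.IsStableUnderBaseChange (@IsClosedImmersion : MorphismProperty Scheme.{u}) := inferInstance

set_option backward.isDefEq.respectTransparency.types false in
theorem respectsIso_lft :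
    MorphismProperty.RespectsIso (@LocallyOfFiniteType : MorphismProperty Scheme.{u}) := inferInstance

theorem cons_isClosedImmersion {X Y S : Scheme.{u}} (f : X ⟶ Y) (g : Y ⟶ S) (h : FP f g) :
    IsLocallyConstructible (goodSet @IsClosedImmersion f g) := by
  have := respectsIso_isClosedImmersion.{u}
  have := isStableUnderBaseChange_isClosedImmersion.{u}
  have := respectsIso_lft.{u}
  refine cons_of_affine (fun {A X Y} f g h => ?_) f g h
  have := h.qc_f; have := h.qs_f; have := h.qc_g; have := h.qs_g; have := h.lfp_f; have := h.lfp_g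
  refine isLocallyConstructible_of_nhds
    (fun s hs => exists_nhd_of_desc LimDesc62.descProp_isClosedImmersion f g h inferInstance s hs) fun s hs => ?_
  by_cases hm : s ∈ goodSet (MorphismProperty.monomorphisms Scheme.{u}) f g
  · have : Mono (fib f g s) := hm
    have : LocallyOfFiniteType (fib f g s) := by unfold fib; infer_instance
    obtain ⟨C, hC, hsC, hCsub⟩ := exists_nhd_not_universallyClosed f g h s fun huc => hs <| by
      have : UniversallyClosed (fib f g s) := huc
      exact (IsClosedImmersion.iff_isProper_and_mono _).mpr ⟨⟨⟩, hm⟩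
    refine ⟨C, hC, hsC, fun t ht hgood => hCsub ht ?_⟩
    have : IsClosedImmersion (fib f g t) := hgood
    show UniversallyClosed (fib f g t)
    infer_instance
  · refine ⟨_, isLocallyConstructible_compl (cons_mono f g h), hm, fun t ht hgood => ht ?_⟩
    have : IsClosedImmersion (fib f g t) := hgood
    show Mono (fib f g t)
    infer_instance

end Groth.Agent.Cons62
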