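import Groth.Agent.S0392
import Groth.Agent.GenFree62.Generic
import Mathlib.RingTheory.Flat.Localization
import Mathlib.RingTheory.LocalRing.ResidueField.Fiber
import Mathlib.RingTheory.Localization.BaseChange
import Mathlib.RingTheory.Localization.Submodule

/-! The fibre criterion of flatness at a prime, in terms of the whole fibre. -/

set_option autoImplicit false
universe u

open TensorProduct

namespace Groth.Agent.Cons62

/-- Flatness of `E ⊗_B W` over `E` is inherited by `E ⊗_B (L ⊗_C W)` for a flat `C`-module `L`. -/
theorem flat_baseChange_tensor {B C E L W : Type u} [CommRing B] [CommRing C] [CommRing E]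
    [Algebra B C] [Algebra B E] [AddCommGroup L] [Module C L] [Module B L] [IsScalarTower B C L]
    [Module.Flat C L] [AddCommGroup W] [Module C W] [Module B W] [IsScalarTower B C W]
    [Module.Flat E (E ⊗[B] W)] : Module.Flat E (E ⊗[B] (L ⊗[C] W)) := by
  rw [Module.Flat.iff_rTensor_preserves_injective_linearMap]
  intro P Q _ _ _ _ u hu
  letI : Module B P := Module.compHom P (algebraMap B E)
  letI : Module B Q := Module.compHom Q (algebraMap B E)
  have : IsScalarTower B E P := .of_algebraMap_smul fun _ _ => rfl
  have : IsScalarTower B E Q := .of_algebraMap_smul fun _ _ => rfl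
  let v : P →ₗ[B] Q := u.restrictScalars B
  have h1 : Function.Injective (v.rTensor W) := by
    let eP := AlgebraTensorModule.cancelBaseChange B E E P W
    let eQ := AlgebraTensorModule.cancelBaseChange B E E Q W
    have key : ∀ t, eQ (u.rTensor (E ⊗[B] W) t) = v.rTensor W (eP t) := by
      intro t
      induction t using TensorProduct.induction_on with
      | zero => simp
      | add x y hx hy => simp only [map_add, hx, hy]
      | tmul x z =>
        induction z using TensorProduct.induction_on with
        | zero => simp
        | add a b ha hb => simp only [tmul_add, map_add, ha, hb]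
        | tmul e w => simp [eP, eQ, v]
    intro x y h
    obtain ⟨x, rfl⟩ := eP.surjective x
    obtain ⟨y, rfl⟩ := eP.surjective y
    rw [← key, ← key] at h
    rw [Module.Flat.rTensor_preserves_injective_linearMap u hu (eQ.injective h)]
  have h1' : Function.Injective (AlgebraTensorModule.lTensor C W v) := by
    intro x y h
    apply (TensorProduct.comm B W P).injective
    apply h1
    have key : ∀ t, v.rTensor W (TensorProduct.comm B W P t) =
        TensorProduct.comm B W Q (AlgebraTensorModule.lTensor C W v t) := by
      intro t
      induction t using TensorProduct.induction_on with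
      | zero => simp
      | add x y hx hy => simp only [map_add, hx, hy]
      | tmul a b => simp
    rw [key, key, h]
  have h2 := Module.Flat.lTensor_preserves_injective_linearMap (R := C) (M := L)
    (AlgebraTensorModule.lTensor C W v) h1'
  have h3 : Function.Injective (v.rTensor (L ⊗[C] W)) := by
    let eP := (TensorProduct.comm B P (L ⊗[C] W)).toEquiv.trans (AlgebraTensorModule.assoc B C C L W P).toEquiv
    let eQ := (TensorProduct.comm B Q (L ⊗[C] W)).toEquiv.trans (AlgebraTensorModule.assoc B C C L W Q).toEquiv
    have key : ∀ t, eQ (v.rTensor (L ⊗[C] W) t) =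
        (AlgebraTensorModule.lTensor C W v).lTensor L (eP t) := by
      intro t
      induction t using TensorProduct.induction_on with
      | zero => simp [eP, eQ]
      | add x y hx hy => simp_all [eP, eQ, map_add]
      | tmul p lw =>
        induction lw using TensorProduct.induction_on with
        | zero => simp [eP, eQ]
        | add a b ha hb => simp_all [eP, eQ, tmul_add, add_tmul, map_add]
        | tmul l w => simp [eP, eQ]
    intro x y h
    apply eP.injective
    apply h2
    rw [← key, ← key, h]
  let eP := AlgebraTensorModule.cancelBaseChange B E E P (L ⊗[C] W)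
  let eQ := AlgebraTensorModule.cancelBaseChange B E E Q (L ⊗[C] W)
  have key : ∀ t, eQ (u.rTensor (E ⊗[B] (L ⊗[C] W)) t) = v.rTensor (L ⊗[C] W) (eP t) := by
    intro t
    induction t using TensorProduct.induction_on with
    | zero => simp
    | add x y hx hy => simp only [map_add, hx, hy]
    | tmul x z =>
      induction z using TensorProduct.induction_on with
      | zero => simp
      | add a b ha hb => simp only [tmul_add, map_add, ha, hb]
      | tmul e w => simp [eP, eQ, v]
  intro x y h
  apply eP.injective
  apply h3
  rw [← key, ← key, h]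

variable {A B C : Type u} [CommRing A] [CommRing B] [CommRing C] [Algebra A B] [Algebra B C] [Algebra A C]
  [IsScalarTower A B C]

attribute [local instance] Algebra.TensorProduct.rightAlgebra

/-- The fibre criterion of flatness at a prime `P` of a finite type algebra. -/
theorem flat_of_fibre_flat [IsNoetherianRing A] [IsNoetherianRing B] [IsNoetherianRing C]
    (P : Ideal C) [P.IsPrime] (M : Type u) [AddCommGroup M] [Module C M] [Module.Finite C M]
    [Module B M] [IsScalarTower B C M]
    [Module.Flat A (Localization.AtPrime P ⊗[C] M)]
    (hfib : Module.Flat (((P.under B).under A).ResidueField ⊗[A] B)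
      ((((P.under B).under A).ResidueField ⊗[A] B) ⊗[B] M)) :
    Module.Flat B (Localization.AtPrime P ⊗[C] M) := by
  let q := P.under B
  let p := q.under A
  let N := Localization.AtPrime P ⊗[C] M
  rcases subsingleton_or_nontrivial N with hN | hN
  · infer_instance
  let Ap := Localization.AtPrime p
  let Bq := Localization.AtPrime q
  let Cp := Localization.AtPrime P
  letI : Algebra Ap Bq := Localization.AtPrime.algebraOfLiesOver p q
  letI : Algebra Bq Cp := Localization.AtPrime.algebraOfLiesOver q P
  letI : Algebra Ap Cp := ((algebraMap Bq Cp).comp (algebraMap Ap Bq)).toAlgebra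
  have : IsScalarTower Ap Bq Cp := .of_algebraMap_eq' rfl
  have : IsScalarTower A Ap Cp := .of_algebraMap_eq fun a => by
    rw [IsScalarTower.algebraMap_apply A B Cp, IsScalarTower.algebraMap_apply B Bq Cp,
      ← IsScalarTower.algebraMap_apply A B Bq, IsScalarTower.algebraMap_apply A Ap Bq]
    rfl
  have : IsLocalHom (algebraMap Ap Bq) :=
    Localization.isLocalHom_localRingHom p q (algebraMap A B) Ideal.LiesOver.over
  have : IsLocalHom (algebraMap Bq Cp) :=
    Localization.isLocalHom_localRingHom q P (algebraMap B C) Ideal.LiesOver.over
  have : IsNoetherianRing Ap := inferInstance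
  have : IsNoetherianRing Bq := inferInstance
  have : IsNoetherianRing Cp := inferInstance
  have : Module.Flat Ap N := (Module.flat_iff_of_isLocalization Ap p.primeCompl N).mpr inferInstance
  -- the fibre ring of the local rings
  let E := Bq ⧸ (IsLocalRing.maximalIdeal Ap).map (algebraMap Ap Bq)
  let α : p.ResidueField →ₐ[A] E :=
    Ideal.Quotient.liftₐ (IsLocalRing.maximalIdeal Ap)
      ((Ideal.Quotient.mkₐ A _).comp (IsScalarTower.toAlgHom A Ap Bq))
      fun a ha => Ideal.Quotient.eq_zero_iff_mem.mpr (Ideal.mem_map_of_mem _ ha)
  let β : B →ₐ[A] E := (Ideal.Quotient.mkₐ A _).comp (IsScalarTower.toAlgHom A B Bq)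
  let D' := p.ResidueField ⊗[A] B
  letI : Algebra D' E := (Algebra.TensorProduct.lift α β fun _ _ => .all _ _).toRingHom.toAlgebra
  have : IsScalarTower B D' E := .of_algebraMap_eq fun b => by
    show _ = Algebra.TensorProduct.lift α β _ ((1 : p.ResidueField) ⊗ₜ[A] b)
    rw [Algebra.TensorProduct.lift_tmul, map_one, one_mul]
    rfl
  have : Module.Flat D' (D' ⊗[B] M) := hfib
  have : Module.Flat E (E ⊗[B] M) :=
    Module.Flat.of_linearEquiv (AlgebraTensorModule.cancelBaseChange B D' E E M).symm
  have : Module.Flat E (E ⊗[B] N) := flat_baseChange_tensor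
  let eN : Bq ⊗[B] N ≃ₗ[Bq] N :=
    haveI := isLocalizedModule_id q.primeCompl N Bq
    (IsLocalizedModule.isBaseChange q.primeCompl Bq (LinearMap.id : N →ₗ[B] N)).equiv
  have h : Module.Flat E (E ⊗[Bq] N) :=
    Module.Flat.of_linearEquiv ((AlgebraTensorModule.congr (LinearEquiv.refl E E) eN).symm ≪≫ₗ
      AlgebraTensorModule.cancelBaseChange B Bq E E N)
  have hflat := (S0392.result (R := Ap) (S := Bq) (S' := Cp) (M := N) h).2
  exact (Module.flat_iff_of_isLocalization Bq q.primeCompl N).mp hflat

/-- If `M` is free away from `h`, its localizations at primes avoiding `h` are flat over the base. -/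
theorem flat_atPrime_of_freeAway {M : Type u} [AddCommGroup M] [Module C M] [Module A M] [IsScalarTower A C M]
    {h : A} (hM : GenFree62.FreeAway h M) (P : Ideal C) [P.IsPrime] (hP : algebraMap A C h ∉ P) :
    Module.Flat A (Localization.AtPrime P ⊗[C] M) := by
  let Ah := Localization.Away h
  let Cp := Localization.AtPrime P
  let N := Cp ⊗[C] M
  have hu : IsUnit (algebraMap A Cp h) := by
    rw [IsScalarTower.algebraMap_apply A C Cp]
    exact IsLocalization.map_units Cp (⟨_, hP⟩ : P.primeCompl)
  letI : Algebra Ah Cp := (IsLocalization.Away.lift h hu).toAlgebra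
  have : IsScalarTower A Ah Cp := .of_algebraMap_eq fun a => (IsLocalization.Away.lift_eq h hu a).symm
  have : SMulCommClass C Ah Cp := ⟨fun c b x => by simp [Algebra.smul_def, mul_left_comm]⟩
  have := hM Ah (IsLocalization.Away.algebraMap_isUnit h)
  have : Module.Flat Ah (Ah ⊗[A] M) := inferInstance
  have : Module.Flat Ah (Ah ⊗[A] N) := flat_baseChange_tensor
  have := isLocalizedModule_id (Submonoid.powers h) N Ah
  have : Module.Flat Ah N := Module.Flat.of_linearEquiv
    (IsLocalizedModule.isBaseChange (Submonoid.powers h) Ah (LinearMap.id : N →ₗ[A] N)).equiv.symm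
  exact (Module.flat_iff_of_isLocalization Ah (Submonoid.powers h) N).mp this

end Groth.Agent.Cons62
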