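import Groth.Agent.Cons62.Generic
import Groth.Agent.Cons62.FlatFibre
import Groth.Agent.FlatMor68.FlatUnramified
import Mathlib.RingTheory.Etale.Locus
import Mathlib.RingTheory.Unramified.Locus
import Mathlib.AlgebraicGeometry.Morphisms.Etale

/-! Constructibility of the locus over which the morphism induced on fibres is etale. -/

set_option autoImplicit false
universe u

open CategoryTheory CategoryTheory.Limits AlgebraicGeometry TopologicalSpace Topology TensorProduct

namespace Groth.Agent.Cons62

/-- A base change has `P` if its source is covered by preimages of opens on which `P` holds. -/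
theorem prop_snd_of_cover {P : MorphismProperty Scheme.{u}} [P.IsStableUnderBaseChange]
    [IsZariskiLocalAtSource P] {X Y T : Scheme.{u}} (f : X ⟶ Y) (b : T ⟶ Y)
    (h : ∀ p : ↥(pullback f b), ∃ (U : Scheme.{u}) (j : U ⟶ X), IsOpenImmersion j ∧
      pullback.fst f b p ∈ Set.range j ∧ P (j ≫ f)) : P (pullback.snd f b) := by
  choose U j hj hp hP using h
  let i := fun p => pullback.snd (j p) (pullback.fst f b)
  have : ∀ p, IsOpenImmersion (i p) := fun p => have := hj p; inferInstance
  refine IsZariskiLocalAtSource.of_iSup_eq_top (fun p => (i p).opensRange)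
    (top_le_iff.mp fun p _ => Opens.mem_iSup.mpr ⟨p, ?_⟩) fun p => ?_
  · show p ∈ Set.range (i p)
    rw [Scheme.Pullback.range_snd]
    exact hp p
  · rw [← (i p).isoOpensRange_inv_comp, Category.assoc, MorphismProperty.cancel_left_of_respectsIso P]
    exact MorphismProperty.of_isPullback
      ((IsPullback.of_hasPullback (j p) (pullback.fst f b)).paste_vert (IsPullback.of_hasPullback f b)) (hP p)

attribute [local instance] Algebra.TensorProduct.rightAlgebra

set_option backward.isDefEq.respectTransparency.types false in
theorem respectsIso_etale :
    MorphismProperty.RespectsIso (@Etale : MorphismProperty Scheme.{u}) := inferInstance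

set_option backward.isDefEq.respectTransparency.types false in
theorem isStableUnderBaseChange_etale :
    MorphismProperty.IsStableUnderBaseChange (@Etale : MorphismProperty Scheme.{u}) := inferInstance

set_option backward.isDefEq.respectTransparency.types false in
theorem isZariskiLocalAtSource_etale :
    IsZariskiLocalAtSource (@Etale : MorphismProperty Scheme.{u}) := inferInstance

theorem genericGood_etale : GenericGood (@Etale : MorphismProperty Scheme.{u}) := by
  intro A B C _ _ _ _ _ _
  have := respectsIso_formallyUnramified.{u}
  have := respectsIso_etale.{u}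
  have := isStableUnderBaseChange_etale.{u}
  have := isZariskiLocalAtSource_etale.{u}
  letI : Algebra A C := ((algebraMap B C).comp (algebraMap A B)).toAlgebra
  have : IsScalarTower A B C := .of_algebraMap_eq' rfl
  have : Algebra.FiniteType A C := Algebra.FiniteType.trans ‹_› ‹Algebra.FiniteType B C›
  have : IsNoetherianRing B := Algebra.FiniteType.isNoetherianRing A B
  have : IsNoetherianRing C := Algebra.FiniteType.isNoetherianRing A C
  have : Algebra.FinitePresentation B C := Algebra.FinitePresentation.of_finiteType.mp ‹_›
  have : Algebra.FinitePresentation A B := Algebra.FinitePresentation.of_finiteType.mp ‹_›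
  obtain ⟨h, h0, hfree⟩ := GenFree62.exists_freeAway (A := A) (B := C) (M := C)
  refine ⟨h, h0, ?_⟩
  let f := Spec.map (CommRingCat.ofHom (algebraMap B C))
  let g := Spec.map (CommRingCat.ofHom (algebraMap A B))
  have hψ : (algebraMap B C).FinitePresentation := RingHom.finitePresentation_algebraMap.mpr inferInstance
  have hφ : (algebraMap A B).FinitePresentation := RingHom.finitePresentation_algebraMap.mpr inferInstance
  let E := goodSet @FormallyUnramified f g ∩
    (PrimeSpectrum.comap (algebraMap A C) '' (Algebra.etaleLocus B C)ᶜ)ᶜ
  suffices ∀ s ∈ (PrimeSpectrum.basicOpen h : Set (PrimeSpectrum A)), (s ∈ goodSet @Etale f g ↔ s ∈ E) by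
    rw [show (PrimeSpectrum.basicOpen h : Set (PrimeSpectrum A)) ∩ goodSet @Etale f g =
      (PrimeSpectrum.basicOpen h : Set (PrimeSpectrum A)) ∩ E from
        Set.ext fun s => and_congr_right (this s)]
    refine ((PrimeSpectrum.isCompact_basicOpen h).isConstructible (PrimeSpectrum.basicOpen h).2).inter ?_
    refine IsConstructible.inter ?_ (isConstructible_compl.mpr ?_)
    · exact (cons_formallyUnramified_spec (CommRingCat.ofHom (algebraMap A B))
        (CommRingCat.ofHom (algebraMap B C)) hψ hφ).isConstructible
    · exact PrimeSpectrum.isConstructible_comap_image (hψ.comp hφ) (isConstructible_compl.mpr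
        ((NoetherianSpace.isCompact _).isConstructible Algebra.isOpen_etaleLocus))
  intro s hs
  refine ⟨fun het => ?_, fun hE => ?_⟩
  · refine ⟨?_, ?_⟩
    · have : Etale (fib f g s) := het
      show FormallyUnramified (fib f g s)
      infer_instance
    · rintro ⟨x, hx, rfl⟩
      refine hx ?_
      set s := PrimeSpectrum.comap (algebraMap A C) x with hsdef
      have het' := (spec_fibre (A := A) (B := B) (C := C) @Etale s).mp het
      rw [HasRingHomProperty.Spec_iff (P := @Etale), CommRingCat.hom_ofHom] at het'
      erw [RingHom.etale_algebraMap] at het'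
      have hflatA : Module.Flat A (Localization.AtPrime x.asIdeal ⊗[C] C) :=
        flat_atPrime_of_freeAway hfree x.asIdeal hs
      have hflatB : Module.Flat B (Localization.AtPrime x.asIdeal ⊗[C] C) :=
        flat_of_fibre_flat (A := A) x.asIdeal C
          (inferInstance : Module.Flat (s.asIdeal.ResidueField ⊗[A] B)
            ((s.asIdeal.ResidueField ⊗[A] B) ⊗[B] C))
      have : Module.Flat B (Localization.AtPrime x.asIdeal) :=
        Module.Flat.of_linearEquiv
          ((TensorProduct.rid C (Localization.AtPrime x.asIdeal)).restrictScalars B).symm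
      let D' := s.asIdeal.ResidueField ⊗[A] B
      let D := D' ⊗[B] C
      have hsub : Subsingleton (D ⊗[C] Ω[C⁄B]) :=
        (KaehlerDifferential.tensorKaehlerEquiv B D' C D).subsingleton_congr.mpr inferInstance
      rw [subsingleton_tensor_iff] at hsub
      obtain ⟨Q, hQ⟩ := (spec_fibre_range (A := A) (B := B) (C := C) s).ge
        (show x ∈ _ from (rfl : PrimeSpectrum.comap _ x = s))
      have hx' : x ∉ Module.support C Ω[C⁄B] := hQ ▸ hsub Q
      have : Algebra.IsUnramifiedAt B x.asIdeal := by
        have : x ∈ Algebra.unramifiedLocus B C := by rw [Algebra.unramifiedLocus_eq_compl_support]; exact hx'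
        exact this
      exact FlatMor68.FlatUnramified.formallyEtale_of_flat (A := B) (B := Localization.AtPrime x.asIdeal)
  · refine prop_snd_of_cover f _ fun p => ?_
    set x := pullback.fst f (pullback.fst g ((Spec A).fromSpecResidueField s)) p
    have hxs : PrimeSpectrum.comap (algebraMap A C) x = s := by
      let b := pullback.fst g ((Spec A).fromSpecResidueField s)
      have h1 : f x = b (pullback.snd f b p) := by
        rw [← Scheme.Hom.comp_apply, ← Scheme.Hom.comp_apply, pullback.condition]
      have h2 := (range_fst_fib g s).le (Set.mem_range_self (pullback.snd f b p))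
      have h3 : g (f x) = s := (congrArg g h1).trans h2
      exact h3
    have hx : x ∈ Algebra.etaleLocus B C := by_contra fun hh => hE.2 ⟨x, hh, hxs⟩
    obtain ⟨_, ⟨c, rfl⟩, hxc, hc⟩ :=
      PrimeSpectrum.isTopologicalBasis_basic_opens.exists_subset_of_mem_open hx Algebra.isOpen_etaleLocus
    have : Algebra.Etale B (Localization.Away c) :=
      Algebra.basicOpen_subset_etaleLocus_iff_etale.mp hc
    refine ⟨_, Spec.map (CommRingCat.ofHom (algebraMap C (Localization.Away c))),
      IsOpenImmersion.of_isLocalization c, ?_, ?_⟩
    · exact (PrimeSpectrum.localization_away_comap_range (Localization.Away c) c).ge hxc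
    · rw [← Spec.map_comp, ← CommRingCat.ofHom_comp, ← IsScalarTower.algebraMap_eq,
        HasRingHomProperty.Spec_iff (P := @Etale), CommRingCat.hom_ofHom]
      exact RingHom.etale_algebraMap.mpr inferInstance

end Groth.Agent.Cons62
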