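import Groth.Agent.Cons62.FibreTop

/-! Constructibility of the loci where a constructible set is dense, closed, open or locally closed
in the fibre. -/

set_option autoImplicit false
universe u

open CategoryTheory CategoryTheory.Limits AlgebraicGeometry TopologicalSpace Topology Set

namespace Groth.Agent.Cons62

section Inv

variable {F : Type u} [TopologicalSpace F] {ι : Type u} {G : ι → Type u} [∀ i, TopologicalSpace (G i)]
  (m : ∀ i, G i → F) (hc : ∀ i, Continuous (m i)) (ho : ∀ i, IsOpenMap (m i))
  (hs : ∀ x, ∃ i y, m i y = x)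

include hs in
theorem subset_iff_preimages (a b : Set F) : a ⊆ b ↔ ∀ i, m i ⁻¹' a ⊆ m i ⁻¹' b :=
  ⟨fun h _ => preimage_mono h, fun h x hx => by obtain ⟨i, y, rfl⟩ := hs x; exact h i hx⟩

include hc ho hs in
theorem isOpen_iff_preimages (a : Set F) : IsOpen a ↔ ∀ i, IsOpen (m i ⁻¹' a) := by
  refine ⟨fun h i => h.preimage (hc i), fun h => ?_⟩
  have : a = ⋃ i, m i '' (m i ⁻¹' a) :=
    subset_antisymm (fun x hx => by obtain ⟨i, y, rfl⟩ := hs x; exact mem_iUnion.mpr ⟨i, y, hx, rfl⟩)
      (iUnion_subset fun i => image_preimage_subset _ _)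
  rw [this]
  exact isOpen_iUnion fun i => ho i _ (h i)

end Inv

/-- `a` is dense in `b`. -/
def densePred : FibrePred.{u} where
  Φ _ _ a b := b ⊆ closure a
  inv m hc ho hs a b := by
    rw [subset_iff_preimages m hs]
    exact forall_congr' fun i => by rw [(ho i).preimage_closure_eq_closure_preimage (hc i)]

/-- `a` is closed. -/
def closedPred : FibrePred.{u} where
  Φ _ _ a _ := IsClosed a
  inv m hc ho hs a b := by simp only [← isOpen_compl_iff, isOpen_iff_preimages m hc ho hs, preimage_compl]

/-- `a` is locally closed. -/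
def lcPred : FibrePred.{u} where
  Φ _ _ a _ := IsLocallyClosed a
  inv m hc ho hs a b := by
    simp only [isLocallyClosed_iff_isOpen_coborder, isOpen_iff_preimages m hc ho hs]
    exact forall_congr' fun i => by rw [coborder_preimage (ho i) (hc i)]

theorem closure_fiberι_preimage {X S : Scheme.{u}} (f : X ⟶ S) (s : S) (a : Set X) :
    closure (f.fiberι s ⁻¹' a) = f.fiberι s ⁻¹' closure (a ∩ f ⁻¹' {s}) := by
  rw [(f.fiberι s).isEmbedding.closure_eq_preimage_closure_image, image_preimage_eq_inter_range,
    f.range_fiberι]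

theorem fiberι_preimage_eq_empty_iff {X S : Scheme.{u}} (f : X ⟶ S) (s : S) (a : Set X) :
    f.fiberι s ⁻¹' a = ∅ ↔ s ∉ f '' a := by
  rw [preimage_eq_empty_iff, f.range_fiberι]
  constructor
  · rintro h ⟨x, hx, rfl⟩
    exact disjoint_left.mp h hx rfl
  · intro h
    exact disjoint_left.mpr fun x hx hs => h ⟨x, hx, hs⟩

theorem closure_fibre_generic {A B : Type u} [CommRing A] [IsDomain A] [IsNoetherianRing A] [CommRing B]
    (φ : A →+* B) (hφ : φ.FiniteType) {a : Set (Spec (CommRingCat.of B))} (ha : IsConstructible a) :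
    ∃ h : A, h ≠ 0 ∧ ∀ s : Spec (CommRingCat.of A), h ∉ s.asIdeal →
      closure ((Spec.map (CommRingCat.ofHom φ)).fiberι s ⁻¹' a) =
        (Spec.map (CommRingCat.ofHom φ)).fiberι s ⁻¹' closure a := by
  algebraize [φ]
  obtain ⟨h, h0, hh⟩ := exists_closure_fibre (A := A) (B := B) ha
  refine ⟨h, h0, fun s hs => ?_⟩
  rw [closure_fiberι_preimage]
  refine subset_antisymm (preimage_mono (closure_mono inter_subset_left)) fun z hz => ?_
  set x := (Spec.map (CommRingCat.ofHom φ)).fiberι s z
  have hxs : Spec.map (CommRingCat.ofHom φ) x = s := by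
    have := mem_range_self (f := (Spec.map (CommRingCat.ofHom φ)).fiberι s) z
    rwa [Scheme.Hom.range_fiberι] at this
  obtain ⟨x', hx', hsp, hcomap⟩ := hh x hz (by
    intro hmem
    apply hs
    rw [← hxs]
    exact hmem)
  show x ∈ closure _
  have hx's : x' ∈ a ∩ Spec.map (CommRingCat.ofHom φ) ⁻¹' {s} := ⟨hx', hcomap.trans hxs⟩
  exact hsp.mem_closed isClosed_closure (subset_closure hx's)

theorem isConstructible_image_compl {A B : Type u} [CommRing A] [IsNoetherianRing A] [CommRing B]
    (φ : A →+* B) (hφ : φ.FiniteType) {h : A} {W : Set (Spec (CommRingCat.of B))} (hW : IsConstructible W)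
    {E : Set (Spec (CommRingCat.of A))}
    (hE : ∀ s : Spec (CommRingCat.of A), h ∉ s.asIdeal → (s ∈ E ↔ s ∉ Spec.map (CommRingCat.ofHom φ) '' W)) :
    IsConstructible ((PrimeSpectrum.basicOpen h : Set (PrimeSpectrum A)) ∩ E) := by
  have : (PrimeSpectrum.basicOpen h : Set (PrimeSpectrum A)) ∩ E =
      (PrimeSpectrum.basicOpen h : Set (PrimeSpectrum A)) ∩ (Spec.map (CommRingCat.ofHom φ) '' W)ᶜ := by
    ext s; exact and_congr_right fun hs => hE s hs
  rw [this]
  refine (ConstrTop58.isConstructible_of_isOpen (PrimeSpectrum.basicOpen h).2).inter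
    (isConstructible_compl.mpr ?_)
  exact PrimeSpectrum.isConstructible_comap_image (RingHom.FinitePresentation.of_finiteType.mp hφ) hW

theorem isNoetherianRing_of_finiteType {A B : Type u} [CommRing A] [IsNoetherianRing A] [CommRing B]
    {φ : A →+* B} (hφ : φ.FiniteType) : IsNoetherianRing B := by
  algebraize [φ]
  exact Algebra.FiniteType.isNoetherianRing A B

theorem dense_generic : densePred.{u}.Generic := by
  intro A B _ _ _ _ φ hφ a b ha hb
  obtain ⟨h, h0, hh⟩ := closure_fibre_generic φ hφ ha
  have := isNoetherianRing_of_finiteType hφ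
  have : NoetherianSpace ↥(Spec (CommRingCat.of B)) := inferInstanceAs (NoetherianSpace (PrimeSpectrum B))
  have hW : IsConstructible (b \ closure a) :=
    hb.sdiff (ConstrTop58.isConstructible_of_isClosed isClosed_closure)
  refine ⟨h, h0, isConstructible_image_compl φ hφ hW fun s hs => ?_⟩
  show _ ⊆ closure _ ↔ _
  rw [hh s hs, ← fiberι_preimage_eq_empty_iff, preimage_sdiff, sdiff_eq_empty]

theorem closed_generic : closedPred.{u}.Generic := by
  intro A B _ _ _ _ φ hφ a b ha hb
  obtain ⟨h, h0, hh⟩ := closure_fibre_generic φ hφ ha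
  have := isNoetherianRing_of_finiteType hφ
  have : NoetherianSpace ↥(Spec (CommRingCat.of B)) := inferInstanceAs (NoetherianSpace (PrimeSpectrum B))
  have hW : IsConstructible (closure a \ a) :=
    (ConstrTop58.isConstructible_of_isClosed isClosed_closure).sdiff ha
  refine ⟨h, h0, isConstructible_image_compl φ hφ hW fun s hs => ?_⟩
  show IsClosed _ ↔ _
  rw [← closure_subset_iff_isClosed, hh s hs, ← fiberι_preimage_eq_empty_iff, preimage_sdiff, sdiff_eq_empty]

theorem lc_generic : lcPred.{u}.Generic := by
  intro A B _ _ _ _ φ hφ a b ha hb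
  obtain ⟨h, h0, hh⟩ := closure_fibre_generic φ hφ ha
  have := isNoetherianRing_of_finiteType hφ
  have : NoetherianSpace ↥(Spec (CommRingCat.of B)) := inferInstanceAs (NoetherianSpace (PrimeSpectrum B))
  have hW : IsConstructible (closure a \ a) :=
    (ConstrTop58.isConstructible_of_isClosed isClosed_closure).sdiff ha
  refine ⟨h, h0, ?_⟩
  have : (PrimeSpectrum.basicOpen h : Set (PrimeSpectrum A)) ∩ lcPred.set (Spec.map (CommRingCat.ofHom φ)) a b
      = (PrimeSpectrum.basicOpen h : Set (PrimeSpectrum A)) ∩
        closedPred.set (Spec.map (CommRingCat.ofHom φ)) (closure a \ a) b := by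
    ext s
    refine and_congr_right fun hs => ?_
    show IsLocallyClosed _ ↔ IsClosed _
    rw [isLocallyClosed_iff_isOpen_coborder, coborder, isOpen_compl_iff, hh s hs, preimage_sdiff]
  rw [this]
  exact (ConstrTop58.isConstructible_of_isOpen (PrimeSpectrum.basicOpen h).2).inter
    (closedPred.cons_noetherian closed_generic φ hφ hW hb)

variable {X S : Scheme.{u}} (f : X ⟶ S) [LocallyOfFinitePresentation f] [QuasiCompact f]
  {a b : Set X}

theorem cons_dense (ha : IsLocallyConstructible a) (hb : IsLocallyConstructible b) :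
    IsLocallyConstructible {s : S | f.fiberι s ⁻¹' b ⊆ closure (f.fiberι s ⁻¹' a)} :=
  densePred.cons dense_generic f ha hb

theorem cons_closed (ha : IsLocallyConstructible a) :
    IsLocallyConstructible {s : S | IsClosed (f.fiberι s ⁻¹' a)} :=
  closedPred.cons closed_generic f ha ha

theorem cons_open (ha : IsLocallyConstructible a) :
    IsLocallyConstructible {s : S | IsOpen (f.fiberι s ⁻¹' a)} := by
  have := cons_closed f (isLocallyConstructible_compl ha)
  simpa only [preimage_compl, isClosed_compl_iff] using this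

theorem cons_locallyClosed (ha : IsLocallyConstructible a) :
    IsLocallyConstructible {s : S | IsLocallyClosed (f.fiberι s ⁻¹' a)} :=
  lcPred.cons lc_generic f ha ha

end Groth.Agent.Cons62
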