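import Groth.Agent.Cons62.Closed

/-! Constructibility of the locus of immersions. -/

set_option autoImplicit false
universe u

open CategoryTheory CategoryTheory.Limits AlgebraicGeometry TopologicalSpace Topology

namespace Groth.Agent.Cons62

/-- The image is closed. -/
def closedRange : MorphismProperty Scheme.{u} := fun _ _ f => IsClosed (Set.range f)

theorem respectsIso_closedRange : (closedRange.{u}).RespectsIso := by
  refine MorphismProperty.RespectsIso.mk _ (fun {X Y Z} e f hf => ?_) (fun {X Y Z} e f hf => ?_)
  · show IsClosed (Set.range (e.hom ≫ f))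
    rw [Scheme.Hom.comp_base, TopCat.coe_comp, Set.range_comp,
      Set.range_eq_univ.mpr e.hom.surjective, Set.image_univ]
    exact hf
  · show IsClosed (Set.range (f ≫ e.hom))
    rw [Scheme.Hom.comp_base, TopCat.coe_comp, Set.range_comp]
    exact e.hom.homeomorph.isClosedMap _ hf

set_option backward.isDefEq.respectTransparency.types false in
theorem respectsIso_isImmersion :
    MorphismProperty.RespectsIso (@IsImmersion : MorphismProperty Scheme.{u}) := inferInstance

theorem cons_isImmersion {X Y S : Scheme.{u}} (f : X ⟶ Y) (g : Y ⟶ S) (h : FP f g) :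
    IsLocallyConstructible (goodSet @IsImmersion f g) := by
  have := respectsIso_isImmersion.{u}
  have := respectsIso_isClosedImmersion.{u}
  have := respectsIso_closedRange.{u}
  refine cons_of_affine (fun {A X Y} f g h => ?_) f g h
  have := h.qc_f; have := h.qs_f; have := h.qc_g; have := h.qs_g; have := h.lfp_f; have := h.lfp_g
  have : CompactSpace Y := QuasiCompact.compactSpace_of_compactSpace g
  have : QuasiSeparatedSpace Y := quasiSeparatedSpace_of_quasiSeparated g
  let E1 := {t : Spec A | IsLocallyClosed (g.fiberι t ⁻¹' Set.range f)}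
  have hE1 : IsLocallyConstructible E1 := cons_locallyClosed g (isLocallyConstructible_range f)
  have hgood : goodSet @IsImmersion f g ⊆ E1 := fun t ht => by
    have : IsImmersion (fib f g t) := ht
    show IsLocallyClosed _
    rw [← range_fib]
    exact (fib f g t).isLocallyClosed_range
  have key : ∀ s ∈ E1, ∃ C E : Set (Spec A), IsLocallyConstructible C ∧ IsLocallyConstructible E ∧ s ∈ C ∧
      ∀ t ∈ C, (t ∈ goodSet @IsImmersion f g ↔ t ∈ E) := by
    intro s hs
    let b := pullback.fst g ((Spec A).fromSpecResidueField s)
    let q := pullback.snd g ((Spec A).fromSpecResidueField s)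
    have : IsLocallyNoetherian (pullback g ((Spec A).fromSpecResidueField s)) :=
      LocallyOfFiniteType.isLocallyNoetherian q
    have : CompactSpace ↥(pullback g ((Spec A).fromSpecResidueField s)) :=
      QuasiCompact.compactSpace_of_compactSpace q
    have : AlgebraicGeometry.IsNoetherian (pullback g ((Spec A).fromSpecResidueField s)) := ⟨⟩
    have : IsPreimmersion b := inferInstance
    let L : Set ↥(pullback g ((Spec A).fromSpecResidueField s)) := b ⁻¹' Set.range f
    obtain ⟨U, hUc, hU⟩ := exists_open_extend b.isEmbedding.isInducing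
      (isLocallyClosed_iff_isOpen_coborder.mp hs : IsOpen (coborder L))
    have : CompactSpace ↥(U : Scheme.{u}) := isCompact_iff_compactSpace.mp hUc
    have : QuasiCompact U.ι := inferInstance
    have h' : FP (pullback.snd f U.ι) (U.ι ≫ g) :=
      ⟨inferInstance, inferInstance, inferInstance, inferInstance, inferInstance, inferInstance⟩
    have hUl : IsLocallyConstructible (U : Set Y) := (hUc.isConstructible U.2).isLocallyConstructible
    refine ⟨(g '' (Set.range f ∩ (U : Set Y)ᶜ))ᶜ ∩ goodSet closedRange (pullback.snd f U.ι) (U.ι ≫ g),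
      goodSet @IsClosedImmersion (pullback.snd f U.ι) (U.ι ≫ g), ?_, cons_isClosedImmersion _ _ h', ⟨?_, ?_⟩, ?_⟩
    · refine (isLocallyConstructible_compl (g.isLocallyConstructible_image
        ((isLocallyConstructible_range f).inter (isLocallyConstructible_compl hUl)))).inter ?_
      have hq : QuasiCompact (pullback.snd f U.ι) := h'.qc_f
      have hl : LocallyOfFinitePresentation (pullback.snd f U.ι) := h'.lfp_f
      convert cons_closed (U.ι ≫ g) (isLocallyConstructible_range (pullback.snd f U.ι)) using 1
      ext t
      show IsClosed (Set.range (fib _ _ t)) ↔ _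
      rw [range_fib]
      rfl
    · rintro ⟨y, ⟨hy, hyU⟩, hys⟩
      obtain ⟨z, rfl⟩ : y ∈ Set.range b := by rw [range_fst_fib]; exact hys
      exact hyU (show z ∈ b ⁻¹' (U : Set Y) by rw [hU]; exact subset_coborder hy)
    · refine (prop_baseChange_target (P := closedRange) f g U.ι s (IsPullback.of_hasPullback U.ι b)).mpr ?_
      show IsClosed (Set.range (pullback.snd (fib f g s) (pullback.snd U.ι b)))
      rw [Scheme.Pullback.range_snd, range_fib]
      have hc : pullback.snd U.ι b ⁻¹' L = pullback.snd U.ι b ⁻¹' closure L := by
        ext z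
        refine ⟨fun hz => subset_closure hz, fun hz => ?_⟩
        have hzU : pullback.snd U.ι b z ∈ coborder L := by
          rw [← hU, Set.mem_preimage, ← Scheme.Hom.comp_apply, ← pullback.condition, Scheme.Hom.comp_apply]
          exact Subtype.coe_prop _
        have : pullback.snd U.ι b z ∈ coborder L ∩ closure L := ⟨hzU, hz⟩
        rwa [coborder_inter_closure] at this
      show IsClosed (pullback.snd U.ι b ⁻¹' L)
      rw [hc]
      exact isClosed_closure.preimage (pullback.snd U.ι b).continuous
    · rintro t ⟨ht1, ht2⟩
      let bt := pullback.fst g ((Spec A).fromSpecResidueField t)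
      let c := pullback.snd U.ι bt
      have hsub : Set.range (fib f g t) ⊆ Set.range c := by
        rw [range_fib, Scheme.Pullback.range_snd, Scheme.Opens.range_ι]
        intro z hz
        by_contra hzU
        have hgt : bt z ∈ g ⁻¹' {t} := by rw [← range_fst_fib]; exact Set.mem_range_self z
        exact ht1 ⟨bt z, ⟨hz, hzU⟩, hgt⟩
      have : Surjective (pullback.fst (fib f g t) c) := ⟨by
        rw [← Set.range_eq_univ, Scheme.Pullback.range_fst, Set.preimage_eq_univ_iff]
        exact hsub⟩
      have : IsIso (pullback.fst (fib f g t) c) :=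
        (isIso_iff_isOpenImmersion_and_surjective _).mpr ⟨inferInstance, inferInstance⟩
      have hfac : fib f g t = inv (pullback.fst (fib f g t) c) ≫ pullback.snd (fib f g t) c ≫ c := by
        rw [← pullback.condition, IsIso.inv_hom_id_assoc]
      rw [prop_baseChange_target (P := @IsClosedImmersion) f g U.ι t (IsPullback.of_hasPullback U.ι bt)]
      have hcr : IsClosed (Set.range (pullback.snd (fib f g t) c)) :=
        (prop_baseChange_target (P := closedRange) f g U.ι t (IsPullback.of_hasPullback U.ι bt)).mp ht2
      constructor
      · intro hi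
        have : IsImmersion (fib f g t) := hi
        exact IsClosedImmersion.of_isPreimmersion _ hcr
      · intro hi
        have : IsClosedImmersion (pullback.snd (fib f g t) c) := hi
        show IsImmersion (fib f g t)
        rw [hfac]
        infer_instance
  refine isLocallyConstructible_of_nhds (fun s hs => ?_) fun s hs => ?_
  · obtain ⟨C, E, hC, hE, hsC, hiff⟩ := key s (hgood hs)
    exact ⟨C ∩ E, hC.inter hE, ⟨hsC, (hiff s hsC).mp hs⟩, fun t ht => (hiff t ht.1).mpr ht.2⟩
  · by_cases hs1 : s ∈ E1
    · obtain ⟨C, E, hC, hE, hsC, hiff⟩ := key s hs1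
      exact ⟨C ∩ Eᶜ, hC.inter (isLocallyConstructible_compl hE), ⟨hsC, fun hsE => hs ((hiff s hsC).mpr hsE)⟩,
        fun t ht htg => ht.2 ((hiff t ht.1).mp htg)⟩
    · exact ⟨E1ᶜ, isLocallyConstructible_compl hE1, hs1, fun t ht htg => ht (hgood htg)⟩

end Groth.Agent.Cons62
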