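import Groth.Agent.Cons62.Spread

/-! Fibre properties local on source and target: reduction to affine schemes. -/

set_option autoImplicit false
universe u

open CategoryTheory CategoryTheory.Limits AlgebraicGeometry TopologicalSpace Topology

namespace Groth.Agent.Cons62

variable {P : MorphismProperty Scheme.{u}}

/-- Fibre properties local on source and target are constructible as soon as they are for
affine schemes. -/
theorem cons_of_local [P.RespectsIso] [IsZariskiLocalAtSource P]
    (hright : ∀ {X Y Z : Scheme.{u}} (x : X ⟶ Y) (m : Y ⟶ Z), IsOpenImmersion m → (P (x ≫ m) ↔ P x))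
    (hA : ∀ {A B C : CommRingCat.{u}} (φ : A ⟶ B) (ψ : B ⟶ C), φ.hom.FinitePresentation →
      ψ.hom.FinitePresentation → IsLocallyConstructible (goodSet P (Spec.map ψ) (Spec.map φ)))
    {X Y S : Scheme.{u}} (f : X ⟶ Y) (g : Y ⟶ S) (h : FP f g) : IsLocallyConstructible (goodSet P f g) := by
  refine cons_of_affine (fun {A X Y} f g h => ?_) f g h
  have := h.qc_f; have := h.qc_g; have := h.lfp_f; have := h.lfp_g
  have : CompactSpace Y := QuasiCompact.compactSpace_of_compactSpace g
  have : CompactSpace X := QuasiCompact.compactSpace_of_compactSpace f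
  -- a finite cover of the source by affine opens mapping into affine opens
  have hex : ∀ x : X, ∃ (V : Y.affineOpens) (U : X.affineOpens), x ∈ U.1 ∧ U.1 ≤ f ⁻¹ᵁ V.1 := by
    intro x
    obtain ⟨_, ⟨V, hV, rfl⟩, hxV, -⟩ :=
      Y.isBasis_affineOpens.exists_subset_of_mem_open (Set.mem_univ (f x)) isOpen_univ
    obtain ⟨_, ⟨U, hU, rfl⟩, hxU, hUV⟩ :=
      X.isBasis_affineOpens.exists_subset_of_mem_open (show x ∈ f ⁻¹ᵁ V from hxV) (f ⁻¹ᵁ V).2
    exact ⟨⟨V, hV⟩, ⟨U, hU⟩, hxU, hUV⟩
  choose V U hxU hUV using hex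
  obtain ⟨t, ht⟩ := isCompact_univ.elim_finite_subcover (fun x => ((U x).1 : Set X)) (fun x => (U x).1.2)
    (fun x _ => Set.mem_iUnion.mpr ⟨x, hxU x⟩)
  have hUaff : ∀ x : X, IsAffineOpen (U x).1 := fun x => (U x).2
  have hVaff : ∀ x : X, IsAffineOpen (V x).1 := fun x => (V x).2
  let φ : ∀ x : X, A ⟶ Γ(Y, (V x).1) := fun x => Spec.preimage ((hVaff x).fromSpec ≫ g)
  let ψ : ∀ x : X, Γ(Y, (V x).1) ⟶ Γ(X, (U x).1) := fun x => f.appLE (V x).1 (U x).1 (hUV x)
  suffices goodSet P f g = ⋂ x : t, goodSet P (Spec.map (ψ x)) (Spec.map (φ x)) by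
    rw [this]
    refine IsLocallyConstructible.iInter fun x => hA _ _ ?_ ?_
    · have : LocallyOfFinitePresentation (Spec.map (φ x)) := by rw [Spec.map_preimage]; infer_instance
      exact (HasRingHomProperty.Spec_iff (P := @LocallyOfFinitePresentation)).mp this
    · have : LocallyOfFinitePresentation (Spec.map (ψ x)) := by
        have h1 : LocallyOfFinitePresentation ((hUaff x).fromSpec ≫ f) := inferInstance
        rw [← (hVaff x).SpecMap_appLE_fromSpec f (hUaff x) (hUV x)] at h1
        exact LimDesc62.lfp_of_comp _ (hVaff x).fromSpec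
      exact (HasRingHomProperty.Spec_iff (P := @LocallyOfFinitePresentation)).mp this
  ext s
  set b := pullback.fst g ((Spec A).fromSpecResidueField s) with hb
  let u : t → Σ Z : Scheme.{u}, (Z ⟶ X) := fun x => ⟨_, (hUaff x).fromSpec⟩
  have key : ∀ x : t, P (pullback.snd ((hUaff x).fromSpec ≫ f) b) ↔
      s ∈ goodSet P (Spec.map (ψ x)) (Spec.map (φ x)) := by
    intro x
    have hsq : IsPullback (pullback.fst (Spec.map (ψ x)) (pullback.fst (hVaff x).fromSpec b))
        (pullback.snd (Spec.map (ψ x)) (pullback.fst (hVaff x).fromSpec b) ≫ pullback.snd (hVaff x).fromSpec b)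
        ((hUaff x).fromSpec ≫ f) b := by
      rw [← (hVaff x).SpecMap_appLE_fromSpec f (hUaff x) (hUV x)]
      exact (IsPullback.of_hasPullback _ _).paste_vert (IsPullback.of_hasPullback _ b)
    have hsq2 : IsPullback (pullback.fst (hVaff x).fromSpec b)
        (pullback.snd (hVaff x).fromSpec b ≫ pullback.snd g ((Spec A).fromSpecResidueField s))
        (Spec.map (φ x)) ((Spec A).fromSpecResidueField s) := by
      rw [Spec.map_preimage]
      exact (IsPullback.of_hasPullback _ b).paste_vert (IsPullback.of_hasPullback g _)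
    rw [← LimDesc62.prop_iff_of_isPullback (P := P) hsq, hright _ _ inferInstance]
    exact prop_snd_congr (P := P) (Spec.map (ψ x)) (Spec.map (φ x)) hsq2
  let W : t → (pullback f b).Opens := fun x => pullback.fst f b ⁻¹ᵁ (U x).1
  have hW : iSup W = ⊤ := by
    refine top_le_iff.mp fun z _ => ?_
    obtain ⟨x, hx, hzx⟩ := Set.mem_iUnion₂.mp (ht (Set.mem_univ (pullback.fst f b z)))
    exact Opens.mem_iSup.mpr ⟨⟨x, hx⟩, hzx⟩
  show P (fib f g s) ↔ _
  rw [Set.mem_iInter, fib, IsZariskiLocalAtSource.iff_of_iSup_eq_top (P := P) W hW]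
  refine forall_congr' fun x => (Iff.trans ?_ (key x))
  have h1 : IsPullback ((pullback.fst f b) ∣_ (U x).1 ≫ (hUaff x).isoSpec.hom) ((W x).ι ≫ pullback.snd f b)
      ((hUaff x).fromSpec ≫ f) b := by
    have h2 := (isPullback_morphismRestrict (pullback.fst f b) (U x).1).paste_vert (IsPullback.of_hasPullback f b)
    refine h2.of_iso (Iso.refl _) (hUaff x).isoSpec (Iso.refl _) (Iso.refl _) (by simp) (by simp [W]) ?_ (by simp)
    rw [Iso.refl_hom, Category.comp_id, IsAffineOpen.isoSpec_hom_fromSpec_assoc]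
  exact LimDesc62.prop_iff_of_isPullback (P := P) h1

end Groth.Agent.Cons62
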