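import Mathlib.RingTheory.LocalRing.ResidueField.Ideal
import Mathlib.RingTheory.Localization.Away.Basic
import Mathlib.AlgebraicGeometry.AffineTransitionLimit

/-! The residue field at a prime is the colimit of the rings of its constructible neighbourhoods. -/

set_option autoImplicit false
universe u

open CategoryTheory CategoryTheory.Limits AlgebraicGeometry Opposite

namespace Groth.Agent.Cons62.ResLimit

variable {A : Type u} [CommRing A] (p : Ideal A)

/-- Finitely many elements to invert and finitely many to kill. -/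
@[ext]
structure Idx : Type u where
  /-- The elements to invert. -/
  F : Finset A
  /-- The elements to kill. -/
  J : Finset A
  hF : ∀ a ∈ F, a ∉ p
  hJ : ∀ a ∈ J, a ∈ p

instance : Preorder (Idx p) := Preorder.lift fun i => (i.F, i.J)

variable {p}

/-- The ring of a constructible neighbourhood. -/
abbrev R (i : Idx p) : Type u :=
  Localization.Away (∏ a ∈ i.F, a) ⧸ Ideal.span (algebraMap A (Localization.Away (∏ a ∈ i.F, a)) '' (i.J : Set A))

theorem ringHom_ext {i : Idx p} {T : Type u} [CommRing T] {φ ψ : R i →+* T}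
    (h : ∀ a, φ (algebraMap A (R i) a) = ψ (algebraMap A (R i) a)) : φ = ψ := by
  refine Ideal.Quotient.ringHom_ext (IsLocalization.ringHom_ext (Submonoid.powers (∏ a ∈ i.F, a)) ?_)
  exact RingHom.ext h

theorem algebraMap_eq_zero {i : Idx p} {a : A} (ha : a ∈ i.J) : algebraMap A (R i) a = 0 :=
  Ideal.Quotient.eq_zero_iff_mem.mpr (Ideal.subset_span ⟨a, ha, rfl⟩)

theorem isUnit_algebraMap {i : Idx p} {a : A} (ha : a ∈ i.F) : IsUnit (algebraMap A (R i) a) := by
  have h := (IsLocalization.Away.algebraMap_isUnit (S := Localization.Away (∏ b ∈ i.F, b)) (∏ b ∈ i.F, b)).map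
    (Ideal.Quotient.mk (Ideal.span (algebraMap A (Localization.Away (∏ a ∈ i.F, a)) '' (i.J : Set A))))
  exact isUnit_of_dvd_unit (map_dvd (algebraMap A (R i)) (Finset.dvd_prod_of_mem id ha)) h

theorem exists_lift {i : Idx p} {T : Type u} [CommRing T] (ψ : A →+* T) (h1 : ∀ a ∈ i.F, IsUnit (ψ a))
    (h0 : ∀ a ∈ i.J, ψ a = 0) : ∃ φ : R i →+* T, φ.comp (algebraMap A (R i)) = ψ := by
  have hu : IsUnit (ψ (∏ a ∈ i.F, a)) := by rw [map_prod]; exact IsUnit.prod_iff.mpr h1
  let l : Localization.Away (∏ a ∈ i.F, a) →+* T := IsLocalization.Away.lift _ hu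
  have hl : ∀ a, l (algebraMap A _ a) = ψ a := IsLocalization.Away.lift_eq _ hu
  refine ⟨Ideal.Quotient.lift _ l fun x hx => ?_, RingHom.ext fun a => hl a⟩
  refine (Ideal.span_le (I := RingHom.ker l)).mpr ?_ hx
  rintro _ ⟨a, ha, rfl⟩
  exact (hl a).trans (h0 a ha)

/-- The transition map. -/
noncomputable def tr {i j : Idx p} (h : i ≤ j) : R i →+* R j :=
  (exists_lift (algebraMap A (R j)) (fun _ ha => isUnit_algebraMap (h.1 ha))
    (fun _ ha => algebraMap_eq_zero (h.2 ha))).choose

theorem tr_algebraMap {i j : Idx p} (h : i ≤ j) (a : A) : tr h (algebraMap A (R i) a) = algebraMap A (R j) a :=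
  RingHom.congr_fun (exists_lift (algebraMap A (R j)) (fun _ ha => isUnit_algebraMap (h.1 ha))
    (fun _ ha => algebraMap_eq_zero (h.2 ha))).choose_spec a

variable (p)

/-- The filtered system. -/
noncomputable abbrev G : Idx p ⥤ CommRingCat.{u} where
  obj i := CommRingCat.of (R i)
  map f := CommRingCat.ofHom (tr (leOfHom f))
  map_id i := CommRingCat.hom_ext (ringHom_ext fun a => tr_algebraMap (le_refl i) a)
  map_comp f g := CommRingCat.hom_ext (ringHom_ext fun a => by
    simp only [CommRingCat.hom_comp, CommRingCat.hom_ofHom, RingHom.comp_apply]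
    rw [tr_algebraMap, tr_algebraMap, tr_algebraMap])

variable [p.IsPrime]

/-- The map to the residue field. -/
noncomputable def toRes (i : Idx p) : R i →+* p.ResidueField :=
  (exists_lift (algebraMap A p.ResidueField)
    (fun a ha => isUnit_iff_ne_zero.mpr (mt Ideal.algebraMap_residueField_eq_zero.mp (i.hF a ha)))
    (fun a ha => Ideal.algebraMap_residueField_eq_zero.mpr (i.hJ a ha))).choose

theorem toRes_algebraMap (i : Idx p) (a : A) : toRes p i (algebraMap A (R i) a) = algebraMap A p.ResidueField a :=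
  RingHom.congr_fun (exists_lift (i := i) (algebraMap A p.ResidueField)
    (fun a ha => isUnit_iff_ne_zero.mpr (mt Ideal.algebraMap_residueField_eq_zero.mp (i.hF a ha)))
    (fun a ha => Ideal.algebraMap_residueField_eq_zero.mpr (i.hJ a ha))).choose_spec a

/-- The cocone with vertex the residue field. -/
noncomputable abbrev cc : Cocone (G p) where
  pt := CommRingCat.of p.ResidueField
  ι :=
    { app := fun i => CommRingCat.ofHom (toRes p i)
      naturality := fun i j f => CommRingCat.hom_ext (ringHom_ext fun a => by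
        show toRes p j (tr (leOfHom f) _) = toRes p i _
        rw [tr_algebraMap, toRes_algebraMap, toRes_algebraMap]) }

/-- The base index. -/
noncomputable def base : Idx p := ⟨∅, ∅, by simp, by simp⟩

theorem base_le (i : Idx p) : base p ≤ i := ⟨Finset.empty_subset _, Finset.empty_subset _⟩

theorem residueField_ext {T : Type u} [CommRing T] {φ ψ : p.ResidueField →+* T}
    (h : ∀ a, φ (algebraMap A p.ResidueField a) = ψ (algebraMap A p.ResidueField a)) : φ = ψ :=
  IsLocalization.ringHom_ext (nonZeroDivisors (A ⧸ p)) (Ideal.Quotient.ringHom_ext (RingHom.ext h))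

noncomputable def isColimit : IsColimit (cc p) := by
  classical
  refine Nonempty.some ?_
  have key : ∀ s : Cocone (G p), ∃ φ : (cc p).pt ⟶ s.pt, ∀ i, (cc p).ι.app i ≫ φ = s.ι.app i := by
    intro s
    have hψ : ∀ i a, (s.ι.app i).hom (algebraMap A (R i) a) =
        (s.ι.app (base p)).hom (algebraMap A (R (base p)) a) := fun i a => by
      rw [← s.w (homOfLE (base_le p i))]
      exact congrArg (s.ι.app i).hom (tr_algebraMap (base_le p i) a).symm
    let ψ : A →+* s.pt := (s.ι.app (base p)).hom.comp (algebraMap A (R (base p)))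
    have hψ0 : ∀ a ∈ p, ψ a = 0 := fun a ha => by
      show (s.ι.app (base p)).hom (algebraMap A (R (base p)) a) = 0
      let i : Idx p := ⟨∅, {a}, by simp, by simpa using ha⟩
      rw [← hψ i a, algebraMap_eq_zero (i := i) (show a ∈ i.J by simp [i])]
      exact map_zero _
    have hψu : ∀ x : nonZeroDivisors (A ⧸ p), IsUnit (Ideal.Quotient.lift p ψ hψ0 x) := by
      rintro ⟨x, hx⟩
      obtain ⟨a, rfl⟩ := Ideal.Quotient.mk_surjective x
      have ha : a ∉ p := fun ha => nonZeroDivisors.ne_zero hx (Ideal.Quotient.eq_zero_iff_mem.mpr ha)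
      let i : Idx p := ⟨{a}, ∅, by simpa using ha, by simp⟩
      show IsUnit ((s.ι.app (base p)).hom (algebraMap A (R (base p)) a))
      rw [← hψ i a]
      exact (isUnit_algebraMap (i := i) (by simp [i])).map _
    refine ⟨CommRingCat.ofHom (IsLocalization.lift (S := p.ResidueField) hψu),
      fun i => CommRingCat.hom_ext (ringHom_ext fun a => ?_)⟩
    show IsLocalization.lift hψu (toRes p i _) = _
    rw [toRes_algebraMap, IsScalarTower.algebraMap_apply A (A ⧸ p) p.ResidueField, IsLocalization.lift_eq]
    exact (hψ i a).symm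
  refine ⟨⟨fun s => (key s).choose, fun s i => (key s).choose_spec i, fun s m hm => ?_⟩⟩
  refine CommRingCat.hom_ext (residueField_ext p fun a => ?_)
  have h1 := congr($(hm (base p)).hom (algebraMap A (R (base p)) a))
  have h2 := congr($((key s).choose_spec (base p)).hom (algebraMap A (R (base p)) a))
  rw [CommRingCat.hom_comp, RingHom.comp_apply] at h1 h2
  erw [toRes_algebraMap] at h1 h2
  exact h1.trans h2.symm

instance : IsFiltered (Idx p) :=
  have : Nonempty (Idx p) := ⟨base p⟩
  have : IsDirectedOrder (Idx p) := ⟨fun i j => by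
    classical
    exact ⟨⟨i.F ∪ j.F, i.J ∪ j.J, fun a ha => (Finset.mem_union.mp ha).elim (i.hF a) (j.hF a),
      fun a ha => (Finset.mem_union.mp ha).elim (i.hJ a) (j.hJ a)⟩,
      ⟨Finset.subset_union_left, Finset.subset_union_left⟩, ⟨Finset.subset_union_right, Finset.subset_union_right⟩⟩⟩
  inferInstance

/-- The diagram of constructible neighbourhoods. -/
noncomputable def D : (Idx p)ᵒᵖ ⥤ Scheme.{u} := (G p).op ⋙ Scheme.Spec

/-- The limit cone with vertex the spectrum of the residue field. -/
noncomputable def c : Cone (D p) := Scheme.Spec.mapCone (cc p).op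

/-- The cone is a limit. -/
noncomputable def isLimit : IsLimit (c p) := isLimitOfPreserves Scheme.Spec (isColimit p).op

instance (i : (Idx p)ᵒᵖ) : IsAffine ((D p).obj i) := inferInstanceAs (IsAffine (Spec _))

instance : ∀ (i j : (Idx p)ᵒᵖ) (f : i ⟶ j), IsAffineHom ((D p).map f) := fun _ _ _ =>
  isAffineHom_of_isAffine _

/-- The map to the base. -/
noncomputable def toBase (i : (Idx p)ᵒᵖ) : (D p).obj i ⟶ Spec (CommRingCat.of A) :=
  Spec.map (CommRingCat.ofHom (algebraMap A (R i.unop)))

theorem map_toBase {i j : (Idx p)ᵒᵖ} (f : i ⟶ j) : (D p).map f ≫ toBase p j = toBase p i := by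
  show Spec.map _ ≫ Spec.map _ = Spec.map _
  rw [← Spec.map_comp]
  congr 1
  exact CommRingCat.hom_ext (RingHom.ext fun a => tr_algebraMap (leOfHom f.unop) a)

theorem π_toBase (i : (Idx p)ᵒᵖ) :
    (c p).π.app i ≫ toBase p i = Spec.map (CommRingCat.ofHom (algebraMap A p.ResidueField)) := by
  show Spec.map _ ≫ Spec.map _ = Spec.map _
  rw [← Spec.map_comp]
  congr 1
  exact CommRingCat.hom_ext (RingHom.ext fun a => toRes_algebraMap p _ a)

end Groth.Agent.Cons62.ResLimit
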