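import Groth.Agent.Cons62.Basic
import Groth.Agent.Cons62.ResLimit
import Groth.Agent.ConsPts12.Cons

/-! Reduction to an affine base, and constructible neighbourhoods from descent to stages. -/

set_option autoImplicit false
universe u

open CategoryTheory CategoryTheory.Limits AlgebraicGeometry TopologicalSpace Topology

namespace Groth.Agent.Cons62

variable {P H : MorphismProperty Scheme.{u}} {X Y S : Scheme.{u}}

theorem prop_snd_congr [P.RespectsIso] (f : X ⟶ Y) (g : Y ⟶ S) {Z U : Scheme.{u}} {t : Z ⟶ S}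
    {b : U ⟶ Y} {b' : U ⟶ Z} (h : IsPullback b b' g t) :
    P (pullback.snd f b) ↔ P (pullback.snd f (pullback.fst g t)) := by
  rw [← h.isoPullback_hom_fst]
  exact prop_snd_iso_iff f _ _

theorem prop_snd_fst_comp_iso_iff [P.RespectsIso] (f : X ⟶ Y) (g : Y ⟶ S) {Z Z' : Scheme.{u}} (e : Z' ⟶ Z)
    [IsIso e] (t : Z ⟶ S) :
    P (pullback.snd f (pullback.fst g (e ≫ t))) ↔ P (pullback.snd f (pullback.fst g t)) :=
  prop_snd_congr f g (b' := pullback.snd g (e ≫ t) ≫ e)
    ((IsPullback.of_hasPullback g (e ≫ t)).of_iso (Iso.refl _) (Iso.refl _) (asIso e) (Iso.refl _)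
      (by simp) (by simp) (by simp) (by simp))

theorem prop_fib_baseChange_iff [P.RespectsIso] (f : X ⟶ Y) (g : Y ⟶ S) {S' : Scheme.{u}} (u : S' ⟶ S) (s' : S') :
    P (fib (pullback.snd f (pullback.fst g u)) (pullback.snd g u) s') ↔
      P (pullback.snd f (pullback.fst g (Spec.map (u.residueFieldMap s') ≫ S.fromSpecResidueField (u s')))) := by
  rw [Scheme.Hom.SpecMap_residueFieldMap_fromSpecResidueField]
  have h1 := (IsPullback.of_hasPullback (pullback.snd f (pullback.fst g u))
    (pullback.fst (pullback.snd g u) (S'.fromSpecResidueField s'))).paste_horiz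
    (IsPullback.of_hasPullback f (pullback.fst g u))
  exact (LimDesc62.prop_iff_of_isPullback h1).trans (prop_snd_congr f g
    ((IsPullback.of_hasPullback (pullback.snd g u) (S'.fromSpecResidueField s')).paste_horiz
      (IsPullback.of_hasPullback g u)))

theorem goodSet_openImmersion [P.RespectsIso] (f : X ⟶ Y) (g : Y ⟶ S) {S' : Scheme.{u}} (u : S' ⟶ S)
    [IsOpenImmersion u] :
    goodSet P (pullback.snd f (pullback.fst g u)) (pullback.snd g u) = u ⁻¹' goodSet P f g :=
  Set.ext fun s' => (prop_fib_baseChange_iff f g u s').trans (prop_snd_fst_comp_iso_iff f g _ _)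

/-- Morphisms of schemes of finite presentation over a base. -/
structure FP (f : X ⟶ Y) (g : Y ⟶ S) : Prop where
  lfp_f : LocallyOfFinitePresentation f
  qc_f : QuasiCompact f
  qs_f : QuasiSeparated f
  lfp_g : LocallyOfFinitePresentation g
  qc_g : QuasiCompact g
  qs_g : QuasiSeparated g

theorem FP.baseChange {f : X ⟶ Y} {g : Y ⟶ S} (h : FP f g) {S' : Scheme.{u}} (u : S' ⟶ S) :
    FP (pullback.snd f (pullback.fst g u)) (pullback.snd g u) where
  lfp_f := have := LimDesc62.isStableUnderBaseChange_lfp.{u}; MorphismProperty.of_isPullback (IsPullback.of_hasPullback _ _) h.lfp_f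
  qc_f := have := h.qc_f; inferInstance
  qs_f := have := h.qs_f; inferInstance
  lfp_g := have := LimDesc62.isStableUnderBaseChange_lfp.{u}; MorphismProperty.of_isPullback (IsPullback.of_hasPullback _ _) h.lfp_g
  qc_g := have := h.qc_g; inferInstance
  qs_g := have := h.qs_g; inferInstance

theorem isIndConstructible_of_nhds [IsAffine S] {E : Set S}
    (h : ∀ s ∈ E, ∃ C : Set S, IsLocallyConstructible C ∧ s ∈ C ∧ C ⊆ E) : ProCons.IsIndConstructible E := by
  intro x
  refine ⟨Set.univ, isOpen_univ, trivial, {T | IsLocallyConstructible T ∧ T ⊆ Subtype.val ⁻¹' E},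
    fun T hT => hT.1, ?_⟩
  refine subset_antisymm (fun y hy => ?_) (Set.sUnion_subset fun T hT => hT.2)
  obtain ⟨C, hC, hyC, hCE⟩ := h y.1 hy
  exact ⟨Subtype.val ⁻¹' C, ⟨hC.preimage_of_isOpenEmbedding isOpen_univ.isOpenEmbedding_subtypeVal,
    Set.preimage_mono hCE⟩, hyC⟩

theorem isLocallyConstructible_of_nhds [IsAffine S] {E : Set S}
    (h : ∀ s ∈ E, ∃ C : Set S, IsLocallyConstructible C ∧ s ∈ C ∧ C ⊆ E)
    (h' : ∀ s ∉ E, ∃ C : Set S, IsLocallyConstructible C ∧ s ∈ C ∧ C ⊆ Eᶜ) : IsLocallyConstructible E := by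
  rw [ConsPts12.isLocallyConstructible_iff, ConsPts12.isProConstructible_iff]
  have := ConsPts12.isIndConstructible_iff.mp (isIndConstructible_of_nhds (E := Eᶜ) h')
  rw [compl_compl] at this
  exact ⟨isIndConstructible_of_nhds h, this⟩

/-- To prove constructibility of a fibre property one may assume the base affine. -/
theorem cons_of_affine [P.RespectsIso]
    (H : ∀ {A : CommRingCat.{u}} {X Y : Scheme.{u}} (f : X ⟶ Y) (g : Y ⟶ Spec A),
      FP f g → IsLocallyConstructible (goodSet P f g))
    (f : X ⟶ Y) (g : Y ⟶ S) (h : FP f g) : IsLocallyConstructible (goodSet P f g) := by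
  refine .of_isOpenCover (U := fun V : S.affineOpens => V.1) ?_ fun V => ?_
  · refine TopologicalSpace.IsOpenCover.mk (top_le_iff.mp fun x _ => ?_)
    obtain ⟨_, ⟨V, hV, rfl⟩, hx, -⟩ :=
      S.isBasis_affineOpens.exists_subset_of_mem_open (Set.mem_univ x) isOpen_univ
    exact Opens.mem_iSup.mpr ⟨⟨V, hV⟩, hx⟩
  have hV : IsAffineOpen V.1 := V.2
  have : IsOpenImmersion hV.fromSpec := inferInstance
  have h1 := H _ _ (h.baseChange hV.fromSpec)
  rw [goodSet_openImmersion (P := P) f g hV.fromSpec] at h1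
  have h2 := h1.preimage_of_isOpenEmbedding hV.isoSpec.hom.isOpenEmbedding
  rw [← Set.preimage_comp] at h2
  have h3 : V.1.ι ⁻¹' goodSet P f g = (hV.fromSpec ∘ hV.isoSpec.hom) ⁻¹' goodSet P f g := by
    refine congrArg (fun m : (V.1 : Scheme.{u}) → S => m ⁻¹' goodSet P f g) (funext fun x => ?_)
    rw [Function.comp_apply, ← Scheme.Hom.comp_apply, IsAffineOpen.isoSpec_hom_fromSpec]
  show IsLocallyConstructible (V.1.ι ⁻¹' goodSet P f g)
  rw [h3]
  exact h2

/-- A descending property which holds in a fibre holds over a constructible neighbourhood. -/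
theorem exists_nhd_of_desc [P.RespectsIso] [P.IsStableUnderBaseChange] [H.RespectsIso]
    (hd : LimDesc62.DescProp H P) {A : CommRingCat.{u}} (f : X ⟶ Y) (g : Y ⟶ Spec A) (h : FP f g)
    (hH : H f) (s : Spec A) (hs : s ∈ goodSet P f g) :
    ∃ C : Set (Spec A), IsLocallyConstructible C ∧ s ∈ C ∧ C ⊆ goodSet P f g := by
  classical
  set p := s.asIdeal
  have : p.IsPrime := s.isPrime
  let b : (ResLimit.Idx p)ᵒᵖ := Opposite.op (ResLimit.base p)
  have : IsIso (ResLimit.toBase p b) := by
    obtain ⟨φ, hφ⟩ := ResLimit.exists_lift (i := ResLimit.base p) (RingHom.id A) (fun a ha => by simp [ResLimit.base] at ha)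
      (fun a ha => by simp [ResLimit.base] at ha)
    have : IsIso (CommRingCat.ofHom (algebraMap A (ResLimit.R (ResLimit.base p)))) :=
      ⟨CommRingCat.ofHom φ, CommRingCat.hom_ext hφ,
        CommRingCat.hom_ext (ResLimit.ringHom_ext fun a => by
        show algebraMap A (ResLimit.R (ResLimit.base p)) (φ (algebraMap A (ResLimit.R (ResLimit.base p)) a)) = _
        exact congrArg (algebraMap A (ResLimit.R (ResLimit.base p))) (RingHom.congr_fun hφ a))⟩
    show IsIso (Spec.map _)
    infer_instance
  let g₁ := g ≫ inv (ResLimit.toBase p b)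
  have hg₁ : g₁ ≫ ResLimit.toBase p b = g := by simp [g₁]
  have := h.qc_f; have := h.qs_f; have := h.qc_g; have := h.qs_g
  have : CompactSpace Y := QuasiCompact.compactSpace_of_compactSpace g
  have : QuasiSeparatedSpace Y := quasiSeparatedSpace_of_quasiSeparated g
  have hbase : ∀ {Z : Scheme.{u}} (t₁ : Z ⟶ (ResLimit.D p).obj b),
      P (pullback.snd f (pullback.fst g₁ t₁)) ↔ P (pullback.snd f (pullback.fst g (t₁ ≫ ResLimit.toBase p b))) :=
    fun t₁ => prop_snd_congr f g (b' := pullback.snd g₁ t₁) ((IsPullback.of_hasPullback g₁ t₁).of_iso (Iso.refl _) (Iso.refl _) (Iso.refl _)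
      (asIso (ResLimit.toBase p b)) (by simp) (by simp) (by simp [g₁]) (by simp))
  have hgood : P (pullback.snd f (pullback.fst g₁ ((ResLimit.c p).π.app b))) := by
    rw [hbase, ResLimit.π_toBase]
    have h0 : ∀ t, t = (Spec A).fromSpecResidueField s → P (pullback.snd f (pullback.fst g t)) := by
      rintro t rfl; exact hs
    have : IsIso (Spec.map (Scheme.Spec.residueFieldIso A s).inv) :=
      Functor.map_isIso Scheme.Spec (Scheme.Spec.residueFieldIso A s).inv.op
    exact (prop_snd_fst_comp_iso_iff f g (Spec.map (Scheme.Spec.residueFieldIso A s).inv) _).mp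
      (h0 _ (Scheme.Spec.map_residueFieldIso_inv_eq_fromSpecResidueField A s))
  obtain ⟨j, φ, hj⟩ := hd.rel (ResLimit.D p) (ResLimit.c p) (ResLimit.isLimit p) b g₁ f hH hgood
  rw [hbase, ResLimit.map_toBase] at hj
  let i := j.unop
  refine ⟨PrimeSpectrum.zeroLocus (i.J : Set A) ∩ (PrimeSpectrum.basicOpen (∏ a ∈ i.F, a) : Set (PrimeSpectrum A)), ?_, ?_, ?_⟩
  · refine IsConstructible.isLocallyConstructible (IsConstructible.inter ?_ ?_)
    · exact isConstructible_compl.mp
        ((PrimeSpectrum.isRetrocompact_zeroLocus_compl i.J.finite_toSet).isConstructible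
          (PrimeSpectrum.isClosed_zeroLocus _).isOpen_compl)
    · exact (PrimeSpectrum.isCompact_basicOpen _).isConstructible (PrimeSpectrum.basicOpen _).2
  · refine ⟨fun a ha => i.hJ a ha, fun hmem => ?_⟩
    obtain ⟨a, ha, hap⟩ := (Ideal.IsPrime.prod_mem_iff (p := p)).mp hmem
    exact i.hF a ha hap
  · rintro t ⟨htJ, htF⟩
    have := t.isPrime
    let ψ : A →+* (Spec A).residueField t :=
      (Scheme.Spec.residueFieldIso A t).inv.hom.comp (algebraMap A t.asIdeal.ResidueField)
    have hψ : Spec.map (CommRingCat.ofHom ψ) = (Spec A).fromSpecResidueField t := by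
      rw [← Scheme.Spec.map_residueFieldIso_inv_eq_fromSpecResidueField, ← Spec.map_comp]
      exact congrArg Spec.map (CommRingCat.hom_ext rfl)
    obtain ⟨l, hl⟩ := ResLimit.exists_lift (i := i) ψ (fun a ha => by
        show IsUnit ((Scheme.Spec.residueFieldIso A t).inv.hom (algebraMap A t.asIdeal.ResidueField a))
        exact (isUnit_iff_ne_zero.mpr (mt Ideal.algebraMap_residueField_eq_zero.mp fun hat =>
          htF (t.asIdeal.mem_of_dvd (Finset.dvd_prod_of_mem (fun a => a) ha) hat))).map _)
      (fun a ha => by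
        show (Scheme.Spec.residueFieldIso A t).inv.hom (algebraMap A _ a) = 0
        rw [Ideal.algebraMap_residueField_eq_zero.mpr (htJ ha)]
        exact map_zero _)
    have e : (Spec A).fromSpecResidueField t = Spec.map (CommRingCat.ofHom l) ≫ ResLimit.toBase p j := by
      rw [← hψ, ← hl]
      show _ = Spec.map (CommRingCat.ofHom l) ≫ Spec.map (CommRingCat.ofHom (algebraMap A (ResLimit.R i)))
      rw [← Spec.map_comp]
      rfl
    show P (fib f g t)
    refine LimDesc62.prop_snd_of_eq_comp (pullback.lift (pullback.fst g _) (pullback.snd g _ ≫ Spec.map (CommRingCat.ofHom l)) ?_)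
      (pullback.lift_fst _ _ _).symm hj
    exact pullback.condition.trans ((congrArg (pullback.snd g _ ≫ ·) e).trans (Category.assoc _ _ _).symm)

end Groth.Agent.Cons62
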